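import Cfsg.Agent.M22Mult38.AltCert
import Mathlib.GroupTheory.SpecificGroups.Alternating
import Mathlib.GroupTheory.GroupAction.Jordan

/-!
Two elements satisfying the relations of A₇ generate at most 2520 elements; a simple quotient of
this kind is A₇.
-/

set_option autoImplicit false

namespace Cfsg.Agent.M22Mult38

open J1Order38.Cert Subgroup

variable {G : Type*} [Group G]

theorem map_subtype_eval (S : Subgroup G) {h : ℕ → S} (w : List ℕ) :
    ((eval h w : S) : G) = eval (fun k => (h k : G)) w :=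
  map_eval S.subtype h w

theorem alt_b_pow {g : ℕ → G} (hr : ∀ w ∈ altRels, eval g w = 1) : g 1 ^ 5 = 1 := by
  have h := hr [2, 2, 2, 2, 2] (by decide)
  simpa [L, pow_succ, mul_assoc] using h

theorem alt_a_pow {g : ℕ → G} (hr : ∀ w ∈ altRels, eval g w = 1) : g 0 ^ 3 = 1 := by
  have h := hr [0, 0, 0] (by decide)
  simpa [L, pow_succ, mul_assoc] using h

theorem altRels_letters : ∀ w ∈ altRels, ∀ x ∈ w, x < 4 := by decide +kernel

theorem eval_congr_lt {g h : ℕ → G} {m : ℕ} (he : ∀ k < m, g k = h k) :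
    ∀ {w : List ℕ}, (∀ x ∈ w, x < 2 * m) → eval g w = eval h w
  | [], _ => rfl
  | x :: w, hw => by
    have hx := hw x (List.mem_cons_self ..)
    rw [eval_cons, eval_cons, eval_congr_lt he fun y hy => hw y (List.mem_cons_of_mem _ hy)]
    unfold L
    rw [he (x / 2) (by omega)]

/-- The subgroup of the first two generators. -/
def altSub (g : ℕ → G) : Subgroup G := closure (g '' {i | i < 2})

/-- The first two generators inside their subgroup. -/
def altGen (g : ℕ → G) (k : ℕ) : altSub g :=
  if h : k < 2 then ⟨g k, subset_closure ⟨k, h, rfl⟩⟩ else 1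

theorem card_altSub_le [Finite G] {g : ℕ → G} (hr : ∀ w ∈ altRels, eval g w = 1) :
    Nat.card (altSub g) ≤ 2520 := by
  set h := altGen g with hh
  have hr' : ∀ w ∈ altRels, eval h w = 1 := by
    intro w hw
    refine Subtype.ext ?_
    rw [map_subtype_eval, OneMemClass.coe_one, ← hr w hw]
    refine eval_congr_lt (m := 2) (fun k hk => ?_) (altRels_letters w hw)
    simp [hh, altGen, hk]
  have htop : closure (h '' {i | i < 2}) = ⊤ := by
    refine map_injective (altSub g).subtype_injective ?_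
    rw [MonoidHom.map_closure, ← MonoidHom.range_eq_map, range_subtype]
    show Subgroup.closure _ = Subgroup.closure (g '' {i | i < 2})
    congr 1
    ext x
    constructor
    · rintro ⟨_, ⟨k, hk, rfl⟩, rfl⟩
      have hk' : k < 2 := hk
      exact ⟨k, hk, by rw [hh, altGen, dif_pos hk']; rfl⟩
    · rintro ⟨k, hk, rfl⟩
      have hk' : k < 2 := hk
      exact ⟨h k, ⟨k, hk, rfl⟩, by rw [hh, altGen, dif_pos hk']; rfl⟩
  have hs : ∀ w ∈ altSubs, eval h w ∈ zpowers (h 1) := by
    intro w hw
    simp only [altSubs, List.mem_singleton] at hw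
    subst hw
    simp [L]
  obtain ⟨-, el, h0, hel⟩ := AltCert.derived hr' hs
  have hV := fun i hi => (hel i hi).2.2.2
  have h1 : Nat.card (altSub g) ≤ 504 * Nat.card (zpowers (h 1)) := by
    refine card_le_mul (el := el) (node := AltCert.node)
      (nxt := fun k => if k = 0 then AltCert.nxt0 else AltCert.nxt1) (by norm_num) htop ?_ ?_
    · rw [show AltCert.node.get 0 = 0 by decide +kernel, h0]
    · intro k hk l hl
      rcases (show k = 0 ∨ k = 1 by omega) with rfl | rfl
      · exact edge_of_edgesOk (by norm_num) AltCert.table_ok0 hV l hl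
      · exact edge_of_edgesOk (by norm_num) AltCert.table_ok1 hV l hl
  have h2 : Nat.card (zpowers (h 1)) ≤ 5 := by
    rw [Nat.card_zpowers]
    exact Nat.le_of_dvd (by norm_num) (orderOf_dvd_of_pow_eq_one (alt_b_pow hr'))
  calc Nat.card (altSub g) ≤ 504 * Nat.card (zpowers (h 1)) := h1
    _ ≤ 504 * 5 := Nat.mul_le_mul_left _ h2

/-- A three cycle. -/
def a7A : Equiv.Perm (Fin 7) :=
  ⟨![1, 2, 0, 3, 4, 5, 6], ![2, 0, 1, 3, 4, 5, 6], by decide, by decide⟩

/-- A five cycle. -/
def a7B : Equiv.Perm (Fin 7) :=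
  ⟨![0, 1, 3, 4, 5, 6, 2], ![0, 1, 6, 2, 3, 4, 5], by decide, by decide⟩

/-- The model generators. -/
def a7gen : ℕ → alternatingGroup (Fin 7)
  | 0 => ⟨a7A, by rw [Equiv.Perm.mem_alternatingGroup]; decide +kernel⟩
  | 1 => ⟨a7B, by rw [Equiv.Perm.mem_alternatingGroup]; decide +kernel⟩
  | _ => 1

theorem a7gen_rels : ∀ w ∈ altRels, eval a7gen w = 1 := by decide +kernel

theorem altSub_a7gen : altSub a7gen = ⊤ := by
  set S := altSub a7gen
  set P := S.map (alternatingGroup (Fin 7)).subtype
  have hA : a7A ∈ P := ⟨a7gen 0, subset_closure ⟨0, by norm_num, rfl⟩, rfl⟩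
  have hB : a7B ∈ P := ⟨a7gen 1, subset_closure ⟨1, by norm_num, rfl⟩, rfl⟩
  haveI : MulAction.IsPretransitive P (Fin 7) := by
    refine (MulAction.isPretransitive_iff_base (0 : Fin 7)).2 fun i => ?_
    have hC := mul_mem hA hA
    fin_cases i
    · exact ⟨⟨1, one_mem _⟩, rfl⟩
    · exact ⟨⟨a7A, hA⟩, rfl⟩
    · exact ⟨⟨a7A * a7A, hC⟩, rfl⟩
    · exact ⟨⟨a7B * (a7A * a7A), mul_mem hB hC⟩, rfl⟩
    · exact ⟨⟨a7B * (a7B * (a7A * a7A)), mul_mem hB (mul_mem hB hC)⟩, rfl⟩
    · exact ⟨⟨a7B * (a7B * (a7B * (a7A * a7A))), mul_mem hB (mul_mem hB (mul_mem hB hC))⟩, rfl⟩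
    · exact ⟨⟨a7B * (a7B * (a7B * (a7B * (a7A * a7A)))),
        mul_mem hB (mul_mem hB (mul_mem hB (mul_mem hB hC)))⟩, rfl⟩
  haveI : MulAction.IsPreprimitive P (Fin 7) :=
    MulAction.IsPreprimitive.of_prime_card (by simp only [Nat.card_fin]; norm_num)
  have h3 : Equiv.Perm.IsThreeCycle a7A := by
    rw [show a7A = Equiv.swap 0 2 * Equiv.swap 0 1 by decide +kernel]
    exact Equiv.Perm.isThreeCycle_swap_mul_swap_same (by decide) (by decide) (by decide)
  have hle := Equiv.Perm.alternatingGroup_le_of_isPreprimitive_of_isThreeCycle_mem this h3 hA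
  rw [eq_top_iff]
  intro x _
  obtain ⟨y, hy, hyx⟩ := hle x.2
  exact Subtype.ext hyx ▸ hy

theorem card_alt7 : Nat.card (alternatingGroup (Fin 7)) = 2520 := by
  rw [nat_card_alternatingGroup, Nat.card_fin]
  decide

/-- A nontrivial group generated by two elements with the relations is A₇. -/
theorem nonempty_mulEquiv_alt7 [Finite G] {g : ℕ → G} (hr : ∀ w ∈ altRels, eval g w = 1)
    (hg : g 1 ≠ 1) : Nonempty (altSub g ≃* alternatingGroup (Fin 7)) := by
  set q : ℕ → G × alternatingGroup (Fin 7) := fun k => (g k, a7gen k)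
  have hq : ∀ w ∈ altRels, eval q w = 1 := fun w hw => by
    refine Prod.ext ?_ ?_
    · exact (map_eval (MonoidHom.fst _ _) q w).trans (hr w hw)
    · exact (map_eval (MonoidHom.snd _ _) q w).trans (a7gen_rels w hw)
  set Y := altSub q
  set p1 : Y →* G := (MonoidHom.fst _ _).comp Y.subtype
  set p2 : Y →* alternatingGroup (Fin 7) := (MonoidHom.snd _ _).comp Y.subtype
  have h2s : Function.Surjective p2 := by
    rw [← MonoidHom.range_eq_top, MonoidHom.range_comp, range_subtype]
    show (closure (q '' {i | i < 2})).map _ = ⊤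
    rw [MonoidHom.map_closure, Set.image_image]
    exact altSub_a7gen
  have hY : Nat.card Y ≤ 2520 := card_altSub_le hq
  have h2b : Function.Bijective p2 :=
    (Nat.bijective_iff_surjective_and_card p2).2 ⟨h2s, le_antisymm (hY.trans card_alt7.ge)
      (Nat.card_le_card_of_surjective _ h2s)⟩
  haveI := alternatingGroup.isSimpleGroup (α := Fin 7) (by simp)
  haveI : IsSimpleGroup Y := (MulEquiv.ofBijective p2 h2b).isSimpleGroup
  have h1r : p1.range = altSub g := by
    rw [MonoidHom.range_comp, range_subtype]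
    show (closure (q '' {i | i < 2})).map _ = _
    rw [MonoidHom.map_closure, Set.image_image]
    rfl
  have h1i : Function.Injective p1 := by
    rw [← MonoidHom.ker_eq_bot_iff]
    rcases IsSimpleGroup.eq_bot_or_eq_top_of_normal p1.ker inferInstance with h | h
    · exact h
    · exfalso
      have : p1.range = ⊥ := by
        rw [MonoidHom.range_eq_bot_iff]
        refine MonoidHom.ext fun y => ?_
        have hy : y ∈ p1.ker := by rw [h]; exact mem_top y
        exact hy
      rw [h1r] at this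
      exact hg (Subgroup.mem_bot.1 (this ▸ subset_closure ⟨1, by norm_num, rfl⟩))
  exact ⟨((MulEquiv.subgroupCongr h1r.symm).trans (MonoidHom.ofInjective h1i).symm).trans
    (MulEquiv.ofBijective p2 h2b)⟩

end Cfsg.Agent.M22Mult38
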