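import Mathlib

/-!
Words in three generators of M₂₂: relations, their shapes, and generating words.
-/

set_option autoImplicit false

namespace Cfsg.Agent.M22Mult38

/-- Relations of the first two generators. -/
def altRels : List (List ℕ) :=
  [[0, 0, 0],
   [2, 2, 2, 2, 2],
   [0, 2, 0, 2, 0, 2, 0, 2, 0, 2, 0, 2, 0, 2],
   [0, 3, 0, 2, 0, 3, 0, 2],
   [0, 3, 3, 0, 2, 2, 0, 3, 3, 0, 2, 2]]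

/-- The subgroup generated by the second generator. -/
def altSubs : List (List ℕ) := [[2]]

/-- The subgroup generated by the first two generators. -/
def mainSubs : List (List ℕ) := [[0], [2]]

/-- Bases of the conjugates. -/
def bases : List (List ℕ) := [[0], [1], [4], [5], [2], [3], [2, 2], [3, 3]]

/-- Orders of the bases. -/
def baseOrd : List ℕ := [3, 3, 3, 3, 5, 5, 5, 5]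

/-- Each entry states that two conjugates of bases agree. -/
def wits : List (List ℕ × Bool × List ℕ × List ℕ × ℕ × List ℕ × ℕ) :=
  [([0, 4, 0, 5, 1, 5, 5, 0, 4, 1, 4, 4], false, [4], [4, 0, 4], 0, [5, 0], 3),
   ([2, 2, 4, 2, 4, 3, 4, 2, 5, 3, 5, 3, 3, 4], false, [5, 3, 3, 4], [5, 3, 3], 2, [2, 4, 3], 3),
   ([2, 2, 5, 3, 4, 2, 4, 3, 3, 4, 2, 5, 3, 5], true, [3], [3, 4, 2], 2, [2, 5, 3], 2),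
   ([0, 0, 4, 1, 4, 0, 5, 1, 1, 5, 0, 5, 1, 4], true, [1], [1, 5, 0], 2, [0, 4, 1], 2),
   ([2, 4, 3, 5, 5, 3, 4, 3, 5, 2, 4, 4, 2, 5], true, [5, 3, 4, 2, 5, 2, 4, 4, 2, 5, 3], [5, 3, 4], 4, [4, 2, 5], 4),
   ([2, 2, 4, 3, 3, 5, 3, 4, 4, 2, 4, 3, 5, 5, 2, 4], false, [5, 2, 4], [5, 2, 4, 2, 2], 2, [4, 2], 3),
   ([2, 2, 4, 3, 3, 4, 4, 3, 5, 2, 4, 3, 4, 2, 5, 5], false, [4, 3, 5, 2, 4, 3, 4, 2, 5, 5], [4, 3, 5, 2], 2, [5, 2, 2], 3),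
   ([0, 0, 4, 1, 4, 0, 5, 1, 1, 4, 0, 4, 0, 5, 1, 5], false, [1, 4, 0, 4, 0, 5, 1, 5], [1, 4, 0, 4], 0, [0, 4, 1], 3),
   ([2, 2, 4, 2, 2, 4, 3, 3, 5, 3, 3, 4, 3, 4, 2, 5], false, [2, 2, 4, 2, 2, 4, 3, 3, 5, 3, 3, 4, 3, 4, 2, 5], [2, 2, 4, 2, 2], 2, [4, 3], 3),
   ([2, 2, 4, 2, 5, 5, 3, 4, 2, 4, 4, 3, 5, 3, 3, 4], false, [4, 3, 5, 3, 3, 4], [4, 3, 5, 3, 3], 2, [5, 3], 3),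
   ([2, 4, 2, 4, 2, 4, 2, 4, 3, 5, 3, 5, 3, 5, 3, 5], true, [2, 4, 2, 4, 2, 5, 3, 5, 3, 5, 3, 5, 3], [2, 4, 2, 4], 4, [5, 3, 5], 4),
   ([2, 2, 4, 3, 3, 4, 4, 3, 3, 4, 3, 4, 2, 5, 2, 2, 5, 5], false, [4, 3, 3, 4, 3, 4, 2, 5, 2, 2, 5, 5], [4, 3, 3, 4, 3], 2, [5, 2, 2], 3),
   ([0, 2, 0, 4, 0, 3, 3, 0, 2, 2, 1, 5, 1, 3, 1, 2, 5, 3], false, [4, 0, 3, 3, 0, 2, 2, 1, 5, 1, 3, 1, 2, 5, 3], [4, 0, 3, 3], 0, [1, 3, 1, 2], 2),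
   ([2, 2, 2, 4, 3, 4, 2, 5, 3, 3, 3, 4, 2, 2, 4, 3, 3, 5], false, [3, 4, 2, 2, 4, 3, 3, 5], [3, 4, 2, 2], 2, [2, 2, 4, 3], 3),
   ([2, 2, 4, 2, 5, 2, 4, 3, 5, 3, 3, 5, 2, 4, 2, 5, 3, 4], false, [3, 5, 2, 4, 2, 5, 3, 4], [3, 5, 2, 4], 4, [2, 4, 2, 5], 5),
   ([2, 2, 2, 5, 3, 3, 4, 3, 4, 2, 5, 2, 2, 4, 3, 3, 3, 4], false, [2, 5, 3, 3, 4, 3, 4, 2, 5, 2, 2, 4, 3, 3, 3, 4], [2, 5, 3, 3, 4, 3], 2, [3, 3], 3),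
   ([0, 2, 0, 3, 4, 2, 0, 3, 5, 2, 1, 3, 1, 5, 1, 5, 0, 4], true, [1, 3, 1], [1, 3, 1, 5, 1], 2, [3, 4, 2], 0),
   ([2, 2, 5, 3, 5, 2, 4, 2, 4, 3, 5, 3, 4, 2, 4, 3, 3, 4], false, [5, 2, 4, 2, 4, 3, 5, 3, 4, 2, 4, 3, 3, 4], [5, 2, 4, 2], 2, [2, 4, 3, 3], 3),
   ([0, 0, 2, 0, 3, 4, 2, 0, 3, 5, 2, 1, 3, 1, 1, 5, 0, 4], false, [0, 2, 0, 3, 4, 2, 0, 3, 5, 2, 1, 3, 1, 1, 5, 0, 4], [0, 2, 0, 3, 4, 2], 0, [1, 5], 1),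
   ([0, 2, 1, 3, 4, 2, 1, 3, 0, 4, 1, 2, 0, 3, 5, 2, 0, 3], false, [3, 5, 2, 0, 3], [3, 5, 2, 0, 3], 0, [1, 3, 0], 3),
   ([0, 2, 0, 5, 0, 3, 5, 1, 5, 3, 4, 2, 4, 0, 4, 2, 1, 4, 1, 3], false, [2, 1, 4, 1, 3], [2, 1, 4, 1, 3], 0, [5, 1, 5, 3], 3),
   ([0, 2, 0, 3, 4, 2, 1, 3, 1, 5, 2, 0, 3, 4, 0, 5, 2, 1, 3, 4], false, [5, 2, 0, 3, 4, 0, 5, 2, 1, 3, 4], [5, 2, 0, 3, 4], 0, [0, 2, 0, 3], 3),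
   ([0, 2, 1, 4, 0, 3, 1, 2, 0, 2, 2, 1, 2, 5, 3, 0, 3, 3, 1, 3], true, [0, 2, 2, 1, 2, 4, 3, 0, 3, 3, 1, 3, 0, 2, 1, 5, 0, 3, 1], [0, 2, 2, 1, 2], 2, [3, 0, 2, 1], 2),
   ([0, 0, 5, 1, 3, 1, 2, 4, 3, 0, 2, 0, 4, 1, 1, 3, 3, 1, 2, 2], false, [0, 5, 1, 3, 1, 2, 4, 3, 0, 2, 0, 4, 1, 1, 3, 3, 1, 2, 2], [0, 5, 1, 3, 1, 2], 2, [1, 3, 3], 0),
   ([0, 2, 0, 5, 5, 0, 3, 3, 0, 2, 2, 1, 4, 4, 1, 3, 1, 2, 5, 3], true, [4, 1, 3, 1], [4, 1, 3, 1, 2], 2, [5, 0, 3, 3], 0),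
   ([0, 2, 0, 4, 1, 4, 3, 0, 2, 5, 0, 5, 1, 3, 1, 3, 4, 1, 5, 2], true, [5, 1, 3, 1], [5, 1, 3, 1, 3, 4], 0, [1, 4, 3], 0),
   ([0, 2, 1, 3, 3, 1, 4, 0, 2, 2, 0, 3, 1, 2, 5, 0, 5, 1, 4, 3], false, [2, 1, 3, 3, 1, 4, 0, 2, 2, 0, 3, 1, 2, 5, 0, 5, 1, 4, 3], [2, 1, 3, 3, 1], 2, [1, 2, 5, 0], 2),
   ([0, 2, 0, 5, 1, 4, 3, 1, 2, 4, 0, 5, 3, 0, 2, 5, 0, 4, 1, 3], false, [4, 3, 1, 2, 4, 0, 5, 3, 0, 2, 5, 0, 4, 1, 3], [4, 3, 1, 2, 4], 0, [0, 4, 1, 3], 1),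
   ([0, 0, 3, 0, 5, 1, 2, 0, 3, 0, 4, 1, 2, 1, 1, 3, 4, 0, 5, 2], false, [0, 3, 0, 5, 1, 2, 0, 3, 0, 4, 1, 2, 1, 1, 3, 4, 0, 5, 2], [0, 3, 0, 5, 1, 2], 0, [1, 3, 4], 1),
   ([0, 2, 1, 2, 2, 1, 2, 4, 3, 0, 3, 3, 0, 3, 1, 2, 0, 5, 1, 3], true, [0, 3, 1], [0, 3, 1, 2, 0], 2, [2, 2, 1, 2], 2),
   ([0, 2, 1, 4, 4, 0, 3, 0, 2, 1, 5, 5, 0, 3, 1, 3, 4, 1, 5, 2], true, [5, 0, 3, 1], [5, 0, 3, 1, 3, 4], 0, [4, 0, 3], 0),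
   ([0, 2, 0, 3, 1, 4, 1, 5, 2, 1, 3, 5, 0, 4, 2, 0, 3, 4, 0, 5], false, [5, 2, 1, 3, 5, 0, 4, 2, 0, 3, 4, 0, 5], [5, 2, 1, 3, 5], 0, [0, 5, 0, 2], 1),
   ([0, 0, 5, 1, 2, 1, 3, 4, 2, 0, 3, 0, 4, 1, 1, 5, 2, 1, 3, 4], false, [0, 5, 1, 2, 1, 3, 4, 2, 0, 3, 0, 4, 1, 1, 5, 2, 1, 3, 4], [0, 5, 1, 2, 1, 3], 2, [1, 5, 2], 0),
   ([0, 2, 1, 4, 0, 5, 0, 3, 1, 2, 5, 0, 3, 3, 4, 2, 2, 1, 4, 3], false, [2, 5, 0, 3, 3, 4, 2, 2, 1, 4, 3], [2, 5, 0, 3, 3], 2, [0, 2, 1, 4], 1),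
   ([4, 1, 2, 0, 3, 5, 0, 2, 1, 3, 1, 4, 2, 1, 3, 0], false, [], [], 2, [1, 2, 0, 3, 5, 0, 2], 0)]

/-- All relations. -/
def allRels : List (List ℕ) := altRels ++ [[4, 4, 4]] ++ wits.map fun w => w.1

/-- A word conjugating the first generator to the third. -/
def conjWord : List ℕ := [1, 2, 0, 3, 5, 0, 2]

/-- The standard generators as words. -/
def genWords : List (List ℕ) := [[2, 0, 4, 0, 3, 4, 0, 5, 1],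
   [2, 2, 4, 3, 5, 2, 0, 4, 2, 4]]

/-- Commuting pairs whose commutators generate the multiplier. -/
def commPairs : List ℕ × List ℕ × List ℕ × List ℕ := ([0, 4], [1, 5], [4], [2, 4, 3, 3, 4, 2])

/-- Tables of the three generators. -/
def genTabs : List (List ℕ) :=
  [[0, 2, 14, 5, 8, 17, 4, 15, 6, 21, 11, 13, 9, 10, 1, 22, 16, 3, 18, 19, 20, 12, 7, 23],
   [0, 1, 2, 13, 12, 22, 9, 15, 21, 17, 5, 7, 6, 11, 16, 3, 18, 4, 19, 20, 14, 10, 8, 23],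
   [0, 1, 3, 13, 14, 6, 22, 15, 16, 19, 4, 7, 9, 2, 10, 11, 17, 8, 18, 12, 20, 21, 5, 23]]

end Cfsg.Agent.M22Mult38
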