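import Cfsg.Agent.M22Mult38.Engine
import Cfsg.Agent.M22Mult38.Words

/-!
A coset derivation (1106 identities, 542 nodes, 504 cosets).
-/

set_option autoImplicit false

namespace Cfsg.Agent.M22Mult38.AltCert

open J1Order38.Cert

def facts_0 : T := (.node 16 (.node 8 (.node 4 (.node 2 (.node 1 (.leaf 131072) (.leaf 65537)) (.node 1 (.leaf 2) (.leaf 2097153))) (.node 2 (.node 1 (.leaf 1179651) (.leaf 1245188)) (.node 1 (.leaf 2228229) (.leaf 2293766)))) (.node 4 (.node 2 (.node 1 (.leaf 3276807) (.leaf 3211272)) (.node 1 (.leaf 3145737) (.leaf 9437192))) (.node 2 (.node 1 (.leaf 4259850) (.leaf 4390923)) (.node 1 (.leaf 11730951) (.leaf 4194316))))) (.node 8 (.node 4 (.node 2 (.node 1 (.leaf 12582922) (.leaf 5373965)) (.node 1 (.leaf 5308430) (.leaf 5242895))) (.node 2 (.node 1 (.leaf 15925258) (.leaf 15728654)) (.node 1 (.leaf 6357008) (.leaf 6488081)))) (.node 4 (.node 2 (.node 1 (.leaf 18022413) (.leaf 6291474)) (.node 1 (.leaf 19005448) (.leaf 18874384))) (.node 2 (.node 1 (.leaf 7405587) (.leaf 7340052)) (.node 1 (.leaf 20971539) (.leaf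 8519701))))))
def facts_1 : T := (.node 16 (.node 8 (.node 4 (.node 2 (.node 1 (.leaf 9568278) (.leaf 9633815)) (.node 1 (.leaf 10682392) (.leaf 11599897))) (.node 2 (.node 1 (.leaf 11534362) (.leaf 27263001)) (.node 1 (.leaf 12714011) (.leaf 12779548)))) (.node 4 (.node 2 (.node 1 (.leaf 13697053) (.leaf 13631518)) (.node 1 (.leaf 31457309) (.leaf 14811167))) (.node 2 (.node 1 (.leaf 14876704) (.leaf 33619991)) (.node 1 (.leaf 15859745) (.leaf 16908322))))) (.node 8 (.node 4 (.node 2 (.node 1 (.leaf 35717147) (.leaf 16973859)) (.node 1 (.leaf 17891364) (.leaf 17825829))) (.node 2 (.node 1 (.leaf 38797348) (.leaf 19071014)) (.node 1 (.leaf 20054055) (.leaf 20119592)))) (.node 4 (.node 2 (.node 1 (.leaf 42139685) (.leaf 21102633)) (.node 1 (.leaf 21168170) (.leaf 22151211))) (.node 2 (.node 1 (.leaf 45219878) (.leaf 22085676)) (.node 1 (.leaf 22020141) (.leaf 47185964))))))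
def facts_2 : T := (.node 16 (.node 8 (.node 4 (.node 2 (.node 1 (.leaf 23199790) (.leaf 23134255)) (.node 1 (.leaf 23068720) (.leaf 50331695))) (.node 2 (.node 1 (.leaf 24182833) (.leaf 51445792)) (.node 1 (.leaf 24313906) (.leaf 52625454)))) (.node 4 (.node 2 (.node 1 (.leaf 25231411) (.leaf 25362484)) (.node 1 (.leaf 54722593) (.leaf 25165877))) (.node 2 (.node 1 (.leaf 55574579) (.leaf 26345526)) (.node 1 (.leaf 56754206) (.leaf 26411063))))) (.node 8 (.node 4 (.node 2 (.node 1 (.leaf 27394104) (.leaf 27459641)) (.node 1 (.leaf 28442682) (.leaf 28377147))) (.node 2 (.node 1 (.leaf 62062641) (.leaf 61931554)) (.node 1 (.leaf 29425724) (.leaf 29556797)))) (.node 4 (.node 2 (.node 1 (.leaf 64159802) (.leaf 29360190)) (.node 1 (.leaf 65011772) (.leaf 30539839))) (.node 2 (.node 1 (.leaf 30605376) (.leaf 31588417)) (.node 1 (.leaf 68288567) (.leaf 32636994))))))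
def facts_3 : T := (.node 16 (.node 8 (.node 4 (.node 2 (.node 1 (.leaf 32571459) (.leaf 32505924)) (.node 1 (.leaf 71303235) (.leaf 33751109))) (.node 2 (.node 1 (.leaf 72548418) (.leaf 34668614)) (.node 1 (.leaf 34603079) (.leaf 74448966)))) (.node 4 (.node 2 (.node 1 (.leaf 35782728) (.leaf 36765769)) (.node 1 (.leaf 36896842) (.leaf 77791304))) (.node 2 (.node 1 (.leaf 36700235) (.leaf 78643273)) (.node 1 (.leaf 37879884) (.leaf 37945421))))) (.node 8 (.node 4 (.node 2 (.node 1 (.leaf 38993998) (.leaf 81985575)) (.node 1 (.leaf 39911503) (.leaf 39845968))) (.node 2 (.node 1 (.leaf 83886159) (.leaf 40960081)) (.node 1 (.leaf 40894546) (.leaf 85983313)))) (.node 4 (.node 2 (.node 1 (.leaf 42008659) (.leaf 87162928)) (.node 1 (.leaf 41943124) (.leaf 88277065))) (.node 2 (.node 1 (.leaf 88080467) (.leaf 43122773)) (.node 1 (.leaf 43057238) (.leaf 42991703))))))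
def facts_4 : T := (.node 16 (.node 8 (.node 4 (.node 2 (.node 1 (.leaf 91226198) (.leaf 44105816)) (.node 1 (.leaf 44236889) (.leaf 93519957))) (.node 2 (.node 1 (.leaf 44040282) (.leaf 94502956)) (.node 1 (.leaf 94371928) (.leaf 45154395)))) (.node 4 (.node 2 (.node 1 (.leaf 45088860) (.leaf 96469083)) (.node 1 (.leaf 46268509) (.leaf 47317086))) (.node 2 (.node 1 (.leaf 47382623) (.leaf 48300128)) (.node 1 (.leaf 48234593) (.leaf 101711968))))) (.node 8 (.node 4 (.node 2 (.node 1 (.leaf 49414242) (.leaf 49479779)) (.node 1 (.leaf 103874655) (.leaf 50462820))) (.node 2 (.node 1 (.leaf 51576933) (.leaf 52494438)) (.node 1 (.leaf 52428903) (.leaf 108003430)))) (.node 4 (.node 2 (.node 1 (.leaf 53608552) (.leaf 109117496)) (.node 1 (.leaf 53674089) (.leaf 54591594))) (.node 2 (.node 1 (.leaf 54526059) (.leaf 112197738)) (.node 1 (.leaf 55705708) (.leaf 55771245))))))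
def facts_5 : T := (.node 16 (.node 8 (.node 4 (.node 2 (.node 1 (.leaf 56688750) (.leaf 115540030)) (.node 1 (.leaf 56623215) (.leaf 116523075))) (.node 2 (.node 1 (.leaf 116392046) (.leaf 57737328)) (.node 1 (.leaf 117571671) (.leaf 57671793)))) (.node 4 (.node 2 (.node 1 (.leaf 118489200) (.leaf 58851442)) (.node 1 (.leaf 58785907) (.leaf 120651880))) (.node 2 (.node 1 (.leaf 59834484) (.leaf 59965557)) (.node 1 (.leaf 122880114) (.leaf 59768950))))) (.node 8 (.node 4 (.node 2 (.node 1 (.leaf 123863121) (.leaf 123732084)) (.node 1 (.leaf 60883063) (.leaf 60817528))) (.node 2 (.node 1 (.leaf 125829239) (.leaf 61997177)) (.node 1 (.leaf 63045754) (.leaf 127991916)))) (.node 4 (.node 2 (.node 1 (.leaf 63111291) (.leaf 64028796)) (.node 1 (.leaf 63963261) (.leaf 131072124))) (.node 2 (.node 1 (.leaf 65208446) (.leaf 66191487)) (.node 1 (.leaf 66125952) (.leaf 66060417))))))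
def facts_6 : T := (.node 16 (.node 8 (.node 4 (.node 2 (.node 1 (.leaf 135266432) (.leaf 67174530)) (.node 1 (.leaf 136446023) (.leaf 67305603))) (.node 2 (.node 1 (.leaf 137560191) (.leaf 137429081)) (.node 1 (.leaf 67108996) (.leaf 138412162)))) (.node 4 (.node 2 (.node 1 (.leaf 68223109) (.leaf 68157574)) (.node 1 (.leaf 140509317) (.leaf 69271687))) (.node 2 (.node 1 (.leaf 69206152) (.leaf 142606471)) (.node 1 (.leaf 70385801) (.leaf 71434378))))) (.node 8 (.node 4 (.node 2 (.node 1 (.leaf 71499915) (.leaf 72417420)) (.node 1 (.leaf 146931807) (.leaf 72351885))) (.node 2 (.node 1 (.leaf 147849356) (.leaf 73531534)) (.node 1 (.leaf 73597071) (.leaf 150012043)))) (.node 4 (.node 2 (.node 1 (.leaf 150143079) (.leaf 74580112)) (.node 1 (.leaf 150995049) (.leaf 75563153))) (.node 2 (.node 1 (.leaf 152240236) (.leaf 75497618)) (.node 1 (.leaf 153092241) (.leaf 76742803))))))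
def facts_7 : T := (.node 16 (.node 8 (.node 4 (.node 2 (.node 1 (.leaf 77660308) (.leaf 77594773)) (.node 1 (.leaf 156237972) (.leaf 78774422))) (.node 2 (.node 1 (.leaf 78839959) (.leaf 79823000)) (.node 1 (.leaf 159449202) (.leaf 79757465)))) (.node 4 (.node 2 (.node 1 (.leaf 160628816) (.leaf 79691930)) (.node 1 (.leaf 161480857) (.leaf 80806043))) (.node 2 (.node 1 (.leaf 162660486) (.leaf 80937116)) (.node 1 (.leaf 163774616) (.leaf 80740509))))) (.node 8 (.node 4 (.node 2 (.node 1 (.leaf 164626587) (.leaf 81854622)) (.node 1 (.leaf 81789087) (.leaf 166854784))) (.node 2 (.node 1 (.leaf 166723742) (.leaf 82968736)) (.node 1 (.leaf 167837846) (.leaf 167903352)))) (.node 4 (.node 2 (.node 1 (.leaf 83034273) (.leaf 84082850)) (.node 1 (.leaf 85065891) (.leaf 86114468))) (.node 2 (.node 1 (.leaf 172097671) (.leaf 86180005)) (.node 1 (.leaf 87228582) (.leaf 88211623))))))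
def facts_8 : T := (.node 16 (.node 8 (.node 4 (.node 2 (.node 1 (.leaf 89194664) (.leaf 89129129)) (.node 1 (.leaf 177209512) (.leaf 90308778))) (.node 2 (.node 1 (.leaf 90374315) (.leaf 179372197)) (.node 1 (.leaf 91357356) (.leaf 92405933)))) (.node 4 (.node 2 (.node 1 (.leaf 181469351) (.leaf 92471470)) (.node 1 (.leaf 93388975) (.leaf 183566467))) (.node 2 (.node 1 (.leaf 94568624) (.leaf 95551665)) (.node 1 (.leaf 95617202) (.leaf 96600243))))) (.node 8 (.node 4 (.node 2 (.node 1 (.leaf 96665780) (.leaf 97648821)) (.node 1 (.leaf 189923504) (.leaf 97583286))) (.node 2 (.node 1 (.leaf 97517751) (.leaf 191889590)) (.node 1 (.leaf 98697400) (.leaf 193069196)))) (.node 4 (.node 2 (.node 1 (.leaf 98631865) (.leaf 98566330)) (.node 1 (.leaf 195035321) (.leaf 99680443))) (.node 2 (.node 1 (.leaf 196149347) (.leaf 100794556)) (.node 1 (.leaf 100860093) (.leaf 101843134))))))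
def facts_9 : T := (.node 16 (.node 8 (.node 4 (.node 2 (.node 1 (.leaf 101908671) (.leaf 200474757)) (.node 1 (.leaf 102891712) (.leaf 102826177))) (.node 2 (.node 1 (.leaf 102760642) (.leaf 203423937)) (.node 1 (.leaf 104005827) (.leaf 204669120)))) (.node 4 (.node 2 (.node 1 (.leaf 104988868) (.leaf 205652134)) (.node 1 (.leaf 104923333) (.leaf 104857798))) (.node 2 (.node 1 (.leaf 207618245) (.leaf 105971911)) (.node 1 (.leaf 106102984) (.leaf 209911929))))) (.node 8 (.node 4 (.node 2 (.node 1 (.leaf 105906377) (.leaf 210895035)) (.node 1 (.leaf 210763975) (.leaf 107086026))) (.node 2 (.node 1 (.leaf 107151563) (.leaf 108200140)) (.node 1 (.leaf 214106254) (.leaf 109183181)))) (.node 4 (.node 2 (.node 1 (.leaf 110297294) (.leaf 216203469)) (.node 1 (.leaf 110100687) (.leaf 217055376))) (.node 2 (.node 1 (.leaf 111280336) (.leaf 218235049)) (.node 1 (.leaf 111345873) (.leaf 219218126))))))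
def facts_10 : T := (.node 16 (.node 8 (.node 4 (.node 2 (.node 1 (.leaf 112328914) (.leaf 112394451)) (.node 1 (.leaf 113311956) (.leaf 222363770))) (.node 2 (.node 1 (.leaf 114360533) (.leaf 114491606)) (.node 1 (.leaf 224592017) (.leaf 114294999)))) (.node 4 (.node 2 (.node 1 (.leaf 225444053) (.leaf 115474648)) (.node 1 (.leaf 116588761) (.leaf 117637338))) (.node 2 (.node 1 (.leaf 118620379) (.leaf 118685916)) (.node 1 (.leaf 230883476) (.leaf 119603421))))) (.node 8 (.node 4 (.node 2 (.node 1 (.leaf 231800984) (.leaf 120717534)) (.node 1 (.leaf 120783071) (.leaf 233898201))) (.node 2 (.node 1 (.leaf 121766112) (.leaf 234946779)) (.node 1 (.leaf 121831649) (.leaf 122749154)))) (.node 4 (.node 2 (.node 1 (.leaf 122683619) (.leaf 238026978)) (.node 1 (.leaf 238158002) (.leaf 123928804))) (.node 2 (.node 1 (.leaf 124911845) (.leaf 124977382)) (.node 1 (.leaf 125960423) (.leaf 242352289))))))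
def facts_11 : T := (.node 16 (.node 8 (.node 4 (.node 2 (.node 1 (.leaf 126943464) (.leaf 126877929)) (.node 1 (.leaf 244515028) (.leaf 244318440))) (.node 2 (.node 1 (.leaf 128057578) (.leaf 130154731)) (.node 1 (.leaf 130220268) (.leaf 131203309)))) (.node 4 (.node 2 (.node 1 (.leaf 248643742) (.leaf 131268846)) (.node 1 (.leaf 132186351) (.leaf 132317424))) (.node 2 (.node 1 (.leaf 251855064) (.leaf 132120817)) (.node 1 (.leaf 252707055) (.leaf 133234930))))) (.node 8 (.node 4 (.node 2 (.node 1 (.leaf 253952179) (.leaf 133169395)) (.node 1 (.leaf 254804210) (.leaf 134349044))) (.node 2 (.node 1 (.leaf 135397621) (.leaf 135463158)) (.node 1 (.leaf 136511735) (.leaf 138543352)))) (.node 4 (.node 2 (.node 1 (.leaf 260047064) (.leaf 138608889)) (.node 1 (.leaf 261095598) (.leaf 139657466))) (.node 2 (.node 1 (.leaf 262209782) (.leaf 262340798)) (.node 1 (.leaf 140640507) (.leaf 141689084))))))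
def facts_12 : T := (.node 16 (.node 8 (.node 4 (.node 2 (.node 1 (.leaf 264372389) (.leaf 142737661)) (.node 1 (.leaf 142803198) (.leaf 143786239))) (.node 2 (.node 1 (.leaf 267518169) (.leaf 143720704)) (.node 1 (.leaf 143655169) (.leaf 269484288)))) (.node 4 (.node 2 (.node 1 (.leaf 144834818) (.leaf 144769283)) (.node 1 (.leaf 144703748) (.leaf 272630019))) (.node 2 (.node 1 (.leaf 145817861) (.leaf 273744015)) (.node 1 (.leaf 208797957) (.leaf 145948934))))) (.node 8 (.node 4 (.node 2 (.node 1 (.leaf 274727107) (.leaf 274923778)) (.node 1 (.leaf 147980551) (.leaf 275775690))) (.node 2 (.node 1 (.leaf 148046088) (.leaf 148963593)) (.node 1 (.leaf 148898058) (.leaf 278921481)))) (.node 4 (.node 2 (.node 1 (.leaf 151126283) (.leaf 280035538)) (.node 1 (.leaf 280101111) (.leaf 153223436))) (.node 2 (.node 1 (.leaf 153288973) (.leaf 282067174)) (.node 1 (.leaf 154206478) (.leaf 283312326))))))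
def facts_13 : T := (.node 16 (.node 8 (.node 4 (.node 2 (.node 1 (.leaf 154337551) (.leaf 284360871)) (.node 1 (.leaf 154140944) (.leaf 285212942))) (.node 2 (.node 1 (.leaf 155386129) (.leaf 286458075)) (.node 1 (.leaf 156369170) (.leaf 156434707)))) (.node 4 (.node 2 (.node 1 (.leaf 157417748) (.leaf 289407210)) (.node 1 (.leaf 157352213) (.leaf 290586856))) (.node 2 (.node 1 (.leaf 290521248) (.leaf 160563478)) (.node 1 (.leaf 161612055) (.leaf 292552926))))) (.node 8 (.node 4 (.node 2 (.node 1 (.leaf 161677592) (.leaf 293601446)) (.node 1 (.leaf 162726169) (.leaf 294715564))) (.node 2 (.node 1 (.leaf 163643674) (.leaf 295829715)) (.node 1 (.leaf 163578139) (.leaf 296747290)))) (.node 4 (.node 2 (.node 1 (.leaf 164757788) (.leaf 164823325)) (.node 1 (.leaf 165806366) (.leaf 299958556))) (.node 2 (.node 1 (.leaf 300024046) (.leaf 166920479)) (.node 1 (.leaf 168886560) (.leaf 168821025))))))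
def facts_14 : T := (.node 16 (.node 8 (.node 4 (.node 2 (.node 1 (.leaf 169935138) (.leaf 170066211)) (.node 1 (.leaf 305332502) (.leaf 169869604))) (.node 2 (.node 1 (.leaf 171049253) (.leaf 307364068)) (.node 1 (.leaf 170983718) (.leaf 170918183)))) (.node 4 (.node 2 (.node 1 (.leaf 309330214) (.leaf 172032296)) (.node 1 (.leaf 310509828) (.leaf 171966761))) (.node 2 (.node 1 (.leaf 311427368) (.leaf 173080874)) (.node 1 (.leaf 312541355) (.leaf 174063915))))) (.node 8 (.node 4 (.node 2 (.node 1 (.leaf 313655573) (.leaf 313524504)) (.node 1 (.leaf 175178028) (.leaf 314769595))) (.node 2 (.node 1 (.leaf 314638509) (.leaf 176292141)) (.node 1 (.leaf 176357678) (.leaf 177340719)))) (.node 4 (.node 2 (.node 1 (.leaf 317849809) (.leaf 237175085)) (.node 1 (.leaf 178389296) (.leaf 178323761))) (.node 2 (.node 1 (.leaf 178258226) (.leaf 320864561)) (.node 1 (.leaf 179503411) (.leaf 322109744))))))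
def facts_15 : T := (.node 16 (.node 8 (.node 4 (.node 2 (.node 1 (.leaf 180486452) (.leaf 323092698)) (.node 1 (.leaf 180420917) (.leaf 324075801))) (.node 2 (.node 1 (.leaf 181535030) (.leaf 182649143)) (.node 1 (.leaf 326304054) (.leaf 182452536)))) (.node 4 (.node 2 (.node 1 (.leaf 327155961) (.leaf 183632185)) (.node 1 (.leaf 328335581) (.leaf 183697722))) (.node 2 (.node 1 (.leaf 184615227) (.leaf 330432781)) (.node 1 (.leaf 184549692) (.leaf 331350331))))) (.node 8 (.node 4 (.node 2 (.node 1 (.leaf 185729341) (.leaf 332529891)) (.node 1 (.leaf 189792433) (.leaf 306839645))) (.node 2 (.node 1 (.leaf 191496354) (.leaf 169869405)) (.node 1 (.leaf 304742583) (.leaf 191889570)))) (.node 4 (.node 2 (.node 1 (.leaf 188743971) (.leaf 185598270)) (.node 1 (.leaf 333447349) (.leaf 186712383))) (.node 2 (.node 1 (.leaf 334627002) (.leaf 186646848)) (.node 1 (.leaf 335544639) (.leaf 187760961))))))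
def facts_16 : T := (.node 16 (.node 8 (.node 4 (.node 2 (.node 1 (.leaf 187695426) (.leaf 337838368)) (.node 1 (.leaf 337641793) (.leaf 188809539))) (.node 2 (.node 1 (.leaf 338755875) (.leaf 188940612)) (.node 1 (.leaf 339935474) (.leaf 192020805)))) (.node 4 (.node 2 (.node 1 (.leaf 192086342) (.leaf 193003847)) (.node 1 (.leaf 192938312) (.leaf 343933255))) (.node 2 (.node 1 (.leaf 194183497) (.leaf 345047366)) (.node 1 (.leaf 195166538) (.leaf 197263691))))) (.node 8 (.node 4 (.node 2 (.node 1 (.leaf 197198156) (.leaf 197132621)) (.node 1 (.leaf 349176140) (.leaf 198246734))) (.node 2 (.node 1 (.leaf 350355654) (.leaf 198377807)) (.node 1 (.leaf 351469899) (.leaf 351338820)))) (.node 4 (.node 2 (.node 1 (.leaf 198181200) (.leaf 352321870)) (.node 1 (.leaf 199295313) (.leaf 199229778))) (.node 2 (.node 1 (.leaf 354419025) (.leaf 200343891)) (.node 1 (.leaf 200278356) (.leaf 356647105))))))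
def facts_17 : T := (.node 16 (.node 8 (.node 4 (.node 2 (.node 1 (.leaf 203620693) (.leaf 204472662)) (.node 1 (.leaf 358613254) (.leaf 205586775))) (.node 2 (.node 1 (.leaf 205521240) (.leaf 360710487)) (.node 1 (.leaf 206700889) (.leaf 206766426)))) (.node 4 (.node 2 (.node 1 (.leaf 362873173) (.leaf 208863579)) (.node 1 (.leaf 209781084) (.leaf 209715549))) (.node 2 (.node 1 (.leaf 365953372) (.leaf 210960734)) (.node 1 (.leaf 211943775) (.leaf 368115990))))) (.node 8 (.node 4 (.node 2 (.node 1 (.leaf 211812704) (.leaf 369295702)) (.node 1 (.leaf 369099015) (.leaf 212926817))) (.node 2 (.node 1 (.leaf 370278738) (.leaf 213057890)) (.node 1 (.leaf 371392863) (.leaf 212861283)))) (.node 4 (.node 2 (.node 1 (.leaf 372244833) (.leaf 213975396)) (.node 1 (.leaf 213909861) (.leaf 374473036))) (.node 2 (.node 1 (.leaf 374341988) (.leaf 215023974)) (.node 1 (.leaf 375587079) (.leaf 246022339))))))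
def facts_18 : T := (.node 16 (.node 8 (.node 4 (.node 2 (.node 1 (.leaf 275382548) (.leaf 201982074)) (.node 1 (.leaf 128057539) (.leaf 63570018))) (.node 2 (.node 1 (.leaf 65667265) (.leaf 129630255)) (.node 1 (.leaf 49414204) (.leaf 30015682)))) (.node 4 (.node 2 (.node 1 (.leaf 132776276) (.leaf 251265215)) (.node 1 (.leaf 200278142) (.leaf 356122865))) (.node 2 (.node 1 (.leaf 252707007) (.leaf 64618837)) (.node 1 (.leaf 131727706) (.leaf 249168069))))) (.node 8 (.node 4 (.node 2 (.node 1 (.leaf 362414238) (.leaf 206766205)) (.node 1 (.leaf 165871813) (.leaf 271188118))) (.node 2 (.node 1 (.leaf 157417734) (.leaf 79298698)) (.node 1 (.leaf 37355779) (.leaf 158990404)))) (.node 4 (.node 2 (.node 1 (.leaf 71434315) (.leaf 77201668)) (.node 1 (.leaf 154796328) (.leaf 283771177))) (.node 2 (.node 1 (.leaf 285868196) (.leaf 171966734)) (.node 1 (.leaf 172032147) (.leaf 303693918))))))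
def facts_19 : T := (.node 16 (.node 8 (.node 4 (.node 2 (.node 1 (.leaf 194642081) (.leaf 168820830)) (.node 1 (.leaf 302645434) (.leaf 242876745))) (.node 2 (.node 1 (.leaf 242286918) (.leaf 195035297)) (.node 1 (.leaf 346685762) (.leaf 337838266)))) (.node 4 (.node 2 (.node 1 (.leaf 224002190) (.leaf 278528215)) (.node 1 (.leaf 225443982) (.leaf 114950410))) (.node 2 (.node 1 (.leaf 114360462) (.leaf 286916945)) (.node 1 (.leaf 286261438) (.leaf 286327122))))) (.node 8 (.node 4 (.node 2 (.node 1 (.leaf 249626876) (.leaf 231342337)) (.node 1 (.leaf 230686976) (.leaf 230752393))) (.node 2 (.node 1 (.leaf 344588613) (.leaf 340787527)) (.node 1 (.leaf 340852920) (.leaf 373489871)))) (.node 4 (.node 2 (.node 1 (.leaf 268566769) (.leaf 367657266)) (.node 1 (.leaf 320995529) (.leaf 214958439))) (.node 2 (.node 1 (.leaf 376439142) (.leaf 216072552)) (.node 1 (.leaf 377553105) (.leaf 217252201))))))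
def facts_20 : T := (.node 16 (.node 8 (.node 4 (.node 2 (.node 1 (.leaf 378601686) (.leaf 218169706)) (.node 1 (.leaf 379781335) (.leaf 218104171))) (.node 2 (.node 1 (.leaf 380764465) (.leaf 380633450)) (.node 1 (.leaf 220332396) (.leaf 381813018)))) (.node 4 (.node 2 (.node 1 (.leaf 220266861) (.leaf 382796043)) (.node 1 (.leaf 221315438) (.leaf 221249903))) (.node 2 (.node 1 (.leaf 384958679) (.leaf 384827758)) (.node 1 (.leaf 222495088) (.leaf 385876185))))) (.node 8 (.node 4 (.node 2 (.node 1 (.leaf 385941727) (.leaf 224461169)) (.node 1 (.leaf 386990441) (.leaf 226492786))) (.node 2 (.node 1 (.leaf 388169989) (.leaf 387973368)) (.node 1 (.leaf 228655475) (.leaf 228589940)))) (.node 4 (.node 2 (.node 1 (.leaf 390070643) (.leaf 229704053)) (.node 1 (.leaf 391250253) (.leaf 391315754))) (.node 2 (.node 1 (.leaf 391184608) (.leaf 349307229)) (.node 1 (.leaf 231866742) (.leaf 392298810))))))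
def facts_21 : T := (.node 16 (.node 8 (.node 4 (.node 2 (.node 1 (.leaf 232915319) (.leaf 232784248)) (.node 1 (.leaf 394461536) (.leaf 394395960))) (.node 2 (.node 1 (.leaf 394264855) (.leaf 234029433)) (.node 1 (.leaf 395510135) (.leaf 235012474)))) (.node 4 (.node 2 (.node 1 (.leaf 235995515) (.leaf 397541696)) (.node 1 (.leaf 236126588) (.leaf 398655866))) (.node 2 (.node 1 (.leaf 235929981) (.leaf 399507835)) (.node 1 (.leaf 244449661) (.leaf 237109630))))) (.node 8 (.node 4 (.node 2 (.node 1 (.leaf 400687406) (.leaf 239141247)) (.node 1 (.leaf 239075712) (.leaf 402653567))) (.node 2 (.node 1 (.leaf 240255361) (.leaf 240189826)) (.node 1 (.leaf 240124291) (.leaf 405930339)))) (.node 4 (.node 2 (.node 1 (.leaf 405799298) (.leaf 241369476)) (.node 1 (.leaf 407044481) (.leaf 406913271))) (.node 2 (.node 1 (.leaf 241172869) (.leaf 408092984)) (.node 1 (.leaf 408027478) (.leaf 407896333))))))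
def facts_22 : T := (.node 16 (.node 8 (.node 4 (.node 2 (.node 1 (.leaf 242221446) (.leaf 408944966)) (.node 1 (.leaf 243401095) (.leaf 409993501))) (.node 2 (.node 1 (.leaf 246546824) (.leaf 411107692)) (.node 1 (.leaf 246481289) (.leaf 412287217)))) (.node 4 (.node 2 (.node 1 (.leaf 246415754) (.leaf 413335888)) (.node 1 (.leaf 413139337) (.leaf 247529867))) (.node 2 (.node 1 (.leaf 414318982) (.leaf 247660940)) (.node 1 (.leaf 415433096) (.leaf 247464333))))) (.node 8 (.node 4 (.node 2 (.node 1 (.leaf 416416042) (.leaf 416285067)) (.node 1 (.leaf 366084493) (.leaf 249561486))) (.node 2 (.node 1 (.leaf 417464706) (.leaf 417333500)) (.node 1 (.leaf 251724175) (.leaf 251658640)))) (.node 4 (.node 2 (.node 1 (.leaf 419430799) (.leaf 254935441)) (.node 1 (.leaf 420479277) (.leaf 420610331))) (.node 2 (.node 1 (.leaf 255000978) (.leaf 255984019)) (.node 1 (.leaf 422707487) (.leaf 400621971))))))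
def facts_23 : T := (.node 16 (.node 8 (.node 4 (.node 2 (.node 1 (.leaf 256508288) (.leaf 255852927)) (.node 1 (.leaf 255918308) (.leaf 307298706))) (.node 2 (.node 1 (.leaf 257032596) (.leaf 423625008)) (.node 1 (.leaf 256967003) (.leaf 256901525)))) (.node 4 (.node 2 (.node 1 (.leaf 424870209) (.leaf 424804747)) (.node 1 (.leaf 424673627) (.leaf 258015638))) (.node 2 (.node 1 (.leaf 425787642) (.leaf 258146711)) (.node 1 (.leaf 426967444) (.leaf 259064216))))) (.node 8 (.node 4 (.node 2 (.node 1 (.leaf 427884932) (.leaf 260178329)) (.node 1 (.leaf 261292442) (.leaf 430113177))) (.node 2 (.node 1 (.leaf 263324059) (.leaf 431096089)) (.node 1 (.leaf 430965038) (.leaf 263258524)))) (.node 4 (.node 2 (.node 1 (.leaf 432210320) (.leaf 263192989)) (.node 1 (.leaf 433258867) (.leaf 433193313))) (.node 2 (.node 1 (.leaf 433062300) (.leaf 265421214)) (.node 1 (.leaf 434110795) (.leaf 265355679))))))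
def facts_24 : T := (.node 16 (.node 8 (.node 4 (.node 2 (.node 1 (.leaf 435290460) (.leaf 265290144)) (.node 1 (.leaf 436404551) (.leaf 436339067))) (.node 2 (.node 1 (.leaf 436208031) (.leaf 266404257)) (.node 1 (.leaf 266535330) (.leaf 438501790)))) (.node 4 (.node 2 (.node 1 (.leaf 438305071) (.leaf 266338723)) (.node 1 (.leaf 439484672) (.leaf 439353761))) (.node 2 (.node 1 (.leaf 267452836) (.leaf 440598900)) (.node 1 (.leaf 267387301) (.leaf 441647503))))) (.node 8 (.node 4 (.node 2 (.node 1 (.leaf 441450916) (.leaf 276890022)) (.node 1 (.leaf 277021095) (.leaf 443744614))) (.node 2 (.node 1 (.leaf 276824488) (.leaf 444727694)) (.node 1 (.leaf 444596646) (.leaf 308412840)))) (.node 4 (.node 2 (.node 1 (.leaf 281149865) (.leaf 445776187)) (.node 1 (.leaf 281084330) (.leaf 281018795))) (.node 2 (.node 1 (.leaf 447938898) (.leaf 447873395)) (.node 1 (.leaf 447742378) (.leaf 442696106))))))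
def facts_25 : T := (.node 16 (.node 8 (.node 4 (.node 2 (.node 1 (.leaf 283247020) (.leaf 448856338)) (.node 1 (.leaf 284230061) (.leaf 449970471))) (.node 2 (.node 1 (.leaf 284164526) (.leaf 451019095)) (.node 1 (.leaf 450888109) (.leaf 287441327)))) (.node 4 (.node 2 (.node 1 (.leaf 451936573) (.leaf 287375792)) (.node 1 (.leaf 453181857) (.leaf 453050796))) (.node 2 (.node 1 (.leaf 288424369) (.leaf 454164886)) (.node 1 (.leaf 454230364) (.leaf 288555442))))) (.node 8 (.node 4 (.node 2 (.node 1 (.leaf 455082380) (.leaf 455279023)) (.node 1 (.leaf 288358835) (.leaf 456262001))) (.node 2 (.node 1 (.leaf 456130993) (.leaf 319947187)) (.node 1 (.leaf 291570100) (.leaf 457245023)))) (.node 4 (.node 2 (.node 1 (.leaf 292684213) (.leaf 293798326)) (.node 1 (.leaf 459473333) (.leaf 296878519))) (.node 2 (.node 1 (.leaf 460325172) (.leaf 460456338)) (.node 1 (.leaf 297927096) (.leaf 297861561))))))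
def facts_26 : T := (.node 16 (.node 8 (.node 4 (.node 2 (.node 1 (.leaf 462619030) (.leaf 462487838)) (.node 1 (.leaf 435356089) (.leaf 299041210))) (.node 2 (.node 1 (.leaf 463470972) (.leaf 463667640)) (.node 1 (.leaf 298844603) (.leaf 464650606)))) (.node 4 (.node 2 (.node 1 (.leaf 464519559) (.leaf 348258747)) (.node 1 (.leaf 301007292) (.leaf 465699160))) (.node 2 (.node 1 (.leaf 300941757) (.leaf 466747686)) (.node 1 (.leaf 466616764) (.leaf 466813314))))) (.node 8 (.node 4 (.node 2 (.node 1 (.leaf 307233214) (.leaf 467665298)) (.node 1 (.leaf 309461439) (.leaf 468779433))) (.node 2 (.node 1 (.leaf 313721280) (.leaf 469959047)) (.node 1 (.leaf 314704321) (.leaf 470942002)))) (.node 4 (.node 2 (.node 1 (.leaf 315621826) (.leaf 471859601)) (.node 1 (.leaf 316670403) (.leaf 472908187))) (.node 2 (.node 1 (.leaf 317718980) (.leaf 473956770)) (.node 1 (.leaf 318767557) (.leaf 475005332))))))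
def facts_27 : T := (.node 16 (.node 8 (.node 4 (.node 2 (.node 1 (.leaf 321978822) (.leaf 476184902)) (.node 1 (.leaf 321913287) (.leaf 477233539))) (.node 2 (.node 1 (.leaf 477102534) (.leaf 322961864)) (.node 1 (.leaf 478151095) (.leaf 324141513)))) (.node 4 (.node 2 (.node 1 (.leaf 479199680) (.leaf 479330703)) (.node 1 (.leaf 324207050) (.leaf 480313793))) (.node 2 (.node 1 (.leaf 480444837) (.leaf 325124555)) (.node 1 (.leaf 481493412) (.leaf 325059020))))) (.node 8 (.node 4 (.node 2 (.node 1 (.leaf 482476440) (.leaf 482345419)) (.node 1 (.leaf 326173133) (.leaf 483590509))) (.node 2 (.node 1 (.leaf 326107598) (.leaf 484442573)) (.node 1 (.leaf 484639114) (.leaf 328270287)))) (.node 4 (.node 2 (.node 1 (.leaf 485622119) (.leaf 485687612)) (.node 1 (.leaf 328204752) (.leaf 486736280))) (.node 2 (.node 1 (.leaf 486670772) (.leaf 486539727)) (.node 1 (.leaf 329318865) (.leaf 487719364))))))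
def facts_28 : T := (.node 16 (.node 8 (.node 4 (.node 2 (.node 1 (.leaf 329253330) (.leaf 488636881)) (.node 1 (.leaf 331547091) (.leaf 489685401))) (.node 2 (.node 1 (.leaf 332399060) (.leaf 490733999)) (.node 1 (.leaf 333578709) (.leaf 491848090)))) (.node 4 (.node 2 (.node 1 (.leaf 333644246) (.leaf 493027651)) (.node 1 (.leaf 334692823) (.leaf 335675864))) (.node 2 (.node 1 (.leaf 494928342) (.leaf 495059271)) (.node 1 (.leaf 336789977) (.leaf 495976920))))) (.node 8 (.node 4 (.node 2 (.node 1 (.leaf 496042454) (.leaf 496173446)) (.node 1 (.leaf 337773018) (.leaf 497156567))) (.node 2 (.node 1 (.leaf 338887131) (.leaf 498270677)) (.node 1 (.leaf 393282011) (.leaf 339804636)))) (.node 4 (.node 2 (.node 1 (.leaf 499319250) (.leaf 499188047)) (.node 1 (.leaf 340918749) (.leaf 500236728))) (.node 2 (.node 1 (.leaf 500302278) (.leaf 347079134)) (.node 1 (.leaf 501350850) (.leaf 501219742))))))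
def facts_29 : T := (.node 16 (.node 8 (.node 4 (.node 2 (.node 1 (.leaf 350421471) (.leaf 502464940)) (.node 1 (.leaf 352518624) (.leaf 503316955))) (.node 2 (.node 1 (.leaf 503382391) (.leaf 359793121)) (.node 1 (.leaf 504496511) (.leaf 360841698)))) (.node 4 (.node 2 (.node 1 (.leaf 505414099) (.leaf 505479577)) (.node 1 (.leaf 364052963) (.leaf 506528225))) (.node 2 (.node 1 (.leaf 506659186) (.leaf 371261924)) (.node 1 (.leaf 507642300) (.leaf 371196389))))) (.node 8 (.node 4 (.node 2 (.node 1 (.leaf 508756444) (.leaf 508690883)) (.node 1 (.leaf 508559844) (.leaf 372376038))) (.node 2 (.node 1 (.leaf 509673850) (.leaf 373424615)) (.node 1 (.leaf 510656890) (.leaf 510722534)))) (.node 4 (.node 2 (.node 1 (.leaf 374538728) (.leaf 511902062)) (.node 1 (.leaf 376570345) (.leaf 512754102))) (.node 2 (.node 1 (.leaf 512885203) (.leaf 377618922)) (.node 1 (.leaf 513802728) (.leaf 513933677))))))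
def facts_30 : T := (.node 16 (.node 8 (.node 4 (.node 2 (.node 1 (.leaf 377684459) (.leaf 514916789)) (.node 1 (.leaf 515047885) (.leaf 378733036))) (.node 2 (.node 1 (.leaf 515965335) (.leaf 516096487)) (.node 1 (.leaf 379716077) (.leaf 380830190)))) (.node 4 (.node 2 (.node 1 (.leaf 517997034) (.leaf 518062568)) (.node 1 (.leaf 518193521) (.leaf 381747695))) (.node 2 (.node 1 (.leaf 519111048) (.leaf 385024496)) (.node 1 (.leaf 520290797) (.leaf 386073073))))) (.node 8 (.node 4 (.node 2 (.node 1 (.leaf 521339261) (.leaf 390267378)) (.node 1 (.leaf 522256807) (.leaf 392233459))) (.node 2 (.node 1 (.leaf 523436500) (.leaf 392167924)) (.node 1 (.leaf 524485103) (.leaf 524288499)))) (.node 4 (.node 2 (.node 1 (.leaf 395379189) (.leaf 525468077)) (.node 1 (.leaf 395313654) (.leaf 526582196))) (.node 2 (.node 1 (.leaf 526516684) (.leaf 526385653)) (.node 1 (.leaf 398459383) (.leaf 527630789))))))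
def facts_31 : T := (.node 16 (.node 8 (.node 4 (.node 2 (.node 1 (.leaf 527565278) (.leaf 527434170)) (.node 1 (.leaf 400556536) (.leaf 528482707))) (.node 2 (.node 1 (.leaf 401736185) (.leaf 529596913)) (.node 1 (.leaf 529662382) (.leaf 403767802)))) (.node 4 (.node 2 (.node 1 (.leaf 530776476) (.leaf 403702267)) (.node 1 (.leaf 531825144) (.leaf 531759599))) (.node 2 (.node 1 (.leaf 531628538) (.leaf 412221948)) (.node 1 (.leaf 532808099) (.leaf 415236605))))) (.node 8 (.node 4 (.node 2 (.node 1 (.leaf 533922242) (.leaf 533856709)) (.node 1 (.leaf 533725618) (.leaf 419627518))) (.node 2 (.node 1 (.leaf 534774249) (.leaf 534839734)) (.node 1 (.leaf 426836479) (.leaf 535953834)))) (.node 4 (.node 2 (.node 1 (.leaf 535888364) (.leaf 429982208)) (.node 1 (.leaf 537067952) (.leaf 536936917))) (.node 2 (.node 1 (.leaf 437453313) (.leaf 537985515)) (.node 1 (.leaf 537919925) (.leaf 442630658))))))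
def facts_32 : T := (.node 16 (.node 8 (.node 4 (.node 2 (.node 1 (.leaf 538968504) (.leaf 539034077)) (.node 1 (.leaf 443613699) (.leaf 540148158))) (.node 2 (.node 1 (.leaf 540213700) (.leaf 540082674)) (.node 1 (.leaf 445710852) (.leaf 541196756)))) (.node 4 (.node 2 (.node 1 (.leaf 541262280) (.leaf 541131199)) (.node 1 (.leaf 467796485) (.leaf 542179802))) (.node 2 (.node 1 (.leaf 542245329) (.leaf 468845062)) (.node 1 (.leaf 543228383) (.leaf 543293941))))) (.node 8 (.node 4 (.node 2 (.node 1 (.leaf 469762567) (.leaf 544211401)) (.node 1 (.leaf 470876680) (.leaf 545325514))) (.node 2 (.node 1 (.leaf 473039369) (.leaf 546308589)) (.node 1 (.leaf 546439634) (.leaf 477299210)))) (.node 4 (.node 2 (.node 1 (.leaf 547553766) (.leaf 478347787)) (.node 1 (.leaf 548471280) (.leaf 548602355))) (.node 2 (.node 1 (.leaf 481427980) (.leaf 549519868)) (.node 1 (.leaf 549585394) (.leaf 484573709))))))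
def facts_33 : T := (.node 16 (.node 8 (.node 4 (.node 2 (.node 1 (.leaf 550633952) (.leaf 493945358)) (.node 1 (.leaf 551682552) (.leaf 551748084))) (.node 2 (.node 1 (.leaf 493879823) (.leaf 552600078)) (.node 1 (.leaf 497091088) (.leaf 553714181)))) (.node 4 (.node 2 (.node 1 (.leaf 502333969) (.leaf 554828260)) (.node 1 (.leaf 554893794) (.leaf 554762758))) (.node 2 (.node 1 (.leaf 504431122) (.leaf 555876880)) (.node 1 (.leaf 555942407) (.leaf 555811299))))) (.node 8 (.node 4 (.node 2 (.node 1 (.leaf 516948499) (.leaf 556990984)) (.node 1 (.leaf 556794377) (.leaf 520159764))) (.node 2 (.node 1 (.leaf 557974023) (.leaf 557908491)) (.node 1 (.leaf 521208341) (.leaf 559022600)))) (.node 4 (.node 2 (.node 1 (.leaf 559088143) (.leaf 558957049)) (.node 1 (.leaf 530711062) (.leaf 559940092))) (.node 2 (.node 1 (.leaf 560005644) (.leaf 560071166)) (.node 1 (.leaf 536019479) (.leaf 561054218))))))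
def facts_34 : T := (.node 9 (.node 4 (.node 2 (.node 1 (.leaf 561185282) (.leaf 537002520)) (.node 1 (.leaf 562102797) (.leaf 562168321))) (.node 2 (.node 1 (.leaf 547422745) (.leaf 563151383)) (.node 1 (.leaf 563216921) (.node 1 (.leaf 550568474) (.leaf 564199960))))) (.node 4 (.node 2 (.node 1 (.leaf 564265498) (.leaf 552796699)) (.node 1 (.leaf 565379603) (.leaf 553779740))) (.node 2 (.node 1 (.leaf 566231579) (.leaf 566362644)) (.node 1 (.leaf 565183005) (.node 1 (.leaf 567280156) (.leaf 567476765))))))
/-- Packed data. -/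
def facts : T := (.node 544 (.node 256 (.node 128 (.node 64 (.node 32 facts_0 facts_1) (.node 32 facts_2 facts_3)) (.node 64 (.node 32 facts_4 facts_5) (.node 32 facts_6 facts_7))) (.node 128 (.node 64 (.node 32 facts_8 facts_9) (.node 32 facts_10 facts_11)) (.node 64 (.node 32 facts_12 facts_13) (.node 32 facts_14 (.node 32 facts_15 facts_16))))) (.node 288 (.node 128 (.node 64 (.node 32 facts_17 facts_18) (.node 32 facts_19 facts_20)) (.node 64 (.node 32 facts_21 facts_22) (.node 32 facts_23 (.node 32 facts_24 facts_25)))) (.node 128 (.node 64 (.node 32 facts_26 facts_27) (.node 32 facts_28 facts_29)) (.node 64 (.node 32 facts_30 facts_31) (.node 32 facts_32 (.node 32 facts_33 facts_34))))))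

def steps_0 : List ℕ :=
  [79229371458530977775699951621, 1, 1, 1361155429326504061982883141651672399874,
   1, 1, 1, 1,
   1, 1, 1, 6805756376811256034638933348501231501314,
   1, 1, 16076741024217140203222478833739795016450283208707, 1,
   8847502501305472163695466298055133036546, 1, 1, 1,
   5347921196994164359289872243091378530697962523937100266782195714, 12930932442731602003876989831206985400322, 1, 1,
   21922836782646732449043847346371331232218449641475, 1, 6170673475558986409018635248693701884381001847527706595602923522, 15653253685661412129515529056617081798658,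
   1, 1, 19736683627087541969697052589768934162434, 1,
   1, 1, 1, 1,
   1, 24500709456136699945771096520762298466306, 1, 1,
   1, 1, 27903585048314669928681127900043272912898, 1,
   1, 15220998758309978302723352076157088332973632804023800831350341635, 1, 1,
   18512020427155864083621103629496601387592802954812192658652463107, 1, 1, 1,
   34709336232670609894501190658605221806082, 1, 1, 1,
   432549339016053727285901866149527123766623820087442200011738069947636200232732327939, 1, 1, 1,
   92075785128093519480804623086717775392624960995330, 1, 1, 42195662535462143856903259693023365562370,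
   1, 1, 1, 44917963009204519843231284796448145080322,
   1, 30966406734633476980543440013730965356547, 1, 97922081594591038354511736344322520934366412537859,
   1, 1, 100844527338372746869967934141082556080074947887107, 1,
   49682009607441111958615842849426826133506, 1, 538790201984074353142909561131522956033704417288571862203614262624878198412017270787, 1,
   1, 1, 1, 1,
   31676176153819303590177124308324923327798605951823690327331176451, 33008256705064863806152543573211451490307, 1, 1,
   115460368863754597487680627634358044854994524241923, 1, 59210061265539427910763930711413554479106, 1,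
   1, 1, 229459213730903680071586614473686409033358564589570, 1,
   1, 1, 66015791680707933737273479347990186426370, 1,
   130075608253363078131017896204614426060306784518147, 1, 1, 69418667272885903720183510727271160872962,
   1, 1, 1, 144690803038758850854772788647450979804478594875395,
   1, 72140988515815713845822049952681257336834, 1, 1,
   1, 165152160438541295284439955412847113427863369809923, 1, 1,
   78266143812548625675749592313401694420994, 1, 1, 80307869167855407665495611140970279075842,
   1, 45663109262090693377281856430025075782130050319323896668221931523, 1, 46897526429634889912134309193143923985311561711980398987260264450,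
   82349604907755906724896887029531522170882, 1, 1, 1,
   86433045233775753634733667623676032974850, 1, 1, 170998278539911182635830571487897430101473568161795,
   1, 48131378652275970290827958320537996216504450682712758425632833538, 88474791358269969763790200573229934510082, 1,
   1, 92558221299696099603971724106381786873858, 1, 1,
   1, 1, 1, 96641672010309663583463761761518956249090,
   1, 1, 53890682266181134865038502376543311877827769875282420545902084099, 1,
   1, 1, 1, 102086272957794415556119811968368515416066,
   1, 59649973325308025915389444415659142072519940983878574793391603715, 1, 1,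
   1, 106169723668407979535611849623505684725762, 1, 1,
   1, 63763747273006079582886991070894696008920846258193427750943391747, 1, 64997951016984065294293563127444621181043955819130965160699035650,
   109572609645179666588177138063779317612546, 1, 65409251830614669461803012368334857677673438502250319407750840323, 1,
   112975485237357636571087169443060291993602, 1, 1, 104468457218115326193468575440244062093315,
   1, 1, 238228379721357144108437003215840009906955656757251, 1,
   67054768942139343354182423283930541970171554115471601484464521218, 117739521451000511616816470435046314606594, 1, 1,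
   121822951392426641456997993968198166970370, 1, 1, 71168567998435912203827208642050128524550452035957606115633332227,
   1, 1, 1, 126586977221475799433072037899191531208706,
   1, 1, 1, 1,
   129989852813653769415982069278472505655298, 1, 76105094224698738228615160654835236277054191323112568269788217347, 1,
   270381906372642899120526497392350874242448518873091, 1403891195868567744268312899233835942923357730093965412223828401669074446227270074371, 1, 132031619707335419684349116350011724070914,
   1, 1, 136795603998009709381802132037034454417410, 1,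
   1, 138837329353316491371548150864603039072258, 1, 1,
   1, 1, 1510131827252409895496632402246657216773148248786730982284273451149328589796449583107, 1,
   142920790448523772420695445580732866887682, 1, 1, 83509940058727088954572090522313023288566875503724403243583209475,
   1540486491870628420335725471942319378920308703295983095261040348562376027648612040707, 1, 6681524253734055442474230069075749472560984965438232826478525646607327898313579188443800928258, 1,
   1586018025621647691663894005740776154983981496069322241125743620054424517121812267011, 1, 149726541632879712386515508339294815715330, 1,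
   1, 1, 153129406840463965299770282657583131721730, 1,
   1, 1, 1677081324700797859887504660112033923219455343636363710844639107017283958041568149507, 1,
   90914760783773689535606443908759216919438057647359717491476332547, 1, 157893443054106840345499583649569154334722, 1,
   91737513062721682240432795394364563385041607256433678203692646403, 1, 325919816046757779682557093395454754783344295018499, 1,
   160615764297036650471138122874979250733058, 1, 1, 92560277895585753111779322528482746048303290480863069230232174594,
   164699183853869063241664389347138444656642, 1, 94205807561888612836269777850011044302869765269631985147349827587, 1737790422347755354544557121175534633594589428286414358162430623188410527115557994499,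
   1, 1, 1, 1,
   1798512720582650978683731461380914242901580329944490781548555730081934610285294977026, 1, 1, 1,
   1, 1, 174907810630402973190394483484981368061954, 1,
   1, 104078885123204432625932817861393556423514061678752149391852109827, 1, 1,
   106547154513389715385708481291363131453728011679930809973858697219, 1, 1, 134414302428154749665150218749534877122563,
   1, 1, 1, 1,
   1, 1, 404841908022702869608804458127188780596446046846978, 1,
   1, 187838737880679259125452602726249070985218, 1, 407765245768729668397777735951456892596626913165314,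
   1, 1, 191241613472857229108362634105530045366274, 1,
   99705677540312216576025378828369713430531, 1, 1, 1,
   1, 2162751789967532181400646785750079021263024554563077738646671176796156698370800484354, 1, 1,
   1, 198727939775648763070764703139948189122562, 1, 425303443877447718888977651961885894791787368939523,
   1, 431148402267246689973384603883939754784318323752962, 1, 1]

set_option maxRecDepth 100000 in
theorem check_0 : run facts altRels altSubs 0 1 steps_0 = some 199 ∧ 0 + steps_0.length = 300 := by
  decide +kernel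

def steps_1 : List ℕ :=
  [203491965604697921046838747070941553295362, 1, 1, 434069755237082641280784786658498994525796538122243,
   1, 122179592194499310866235796281433950459355562312010348807590379522, 205533711729192137175895280020495454830594, 1,
   1, 1, 632839776129615200293598804343907148075576693620739, 1,
   1, 451610830175619194239980566241527712129380367597571, 1, 148706660299332584474064291189316748181506,
   1, 2360056183598881557960436233529720499804019093484540935546648670676905496153479118851, 1, 127938920916715595092793564054309136394332415811355560409312198659,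
   1, 1, 1, 124886977691616628588870125157034241097731,
   1, 1, 466226114095599067642681696089030602739168742080515, 1,
   221186939453210799097281424365187937206274, 1, 1, 1,
   1, 1, 2542186255721281142968738628539057834280169276586589340759043117020718425640482766850, 1,
   156873655181903166059945680048525013090307, 1, 1, 140280274132291794169952764278331725074958166593460010368107806723,
   1, 141925791243816476831698819269215137912616415875676156060658630659, 1, 1,
   1, 234117845934299650893029029484470323249154, 2633245849248620028671934014080802607644115558387343244382402948920512310584009949186, 1,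
   1, 1, 1, 723454260314153681573670131485151361513580654034946,
   1, 1, 149330618258512581879097199139928184790728894552028517070314012674, 240243022000219996862267085967176077279234,
   1, 1, 1, 1,
   2830549548130967594584679120275601900565241009041845722457999804743149344908023562242, 1, 1, 1,
   550993320639039662521857896210545188466298619625475, 1, 247048793953763370967397662847723343118338, 1,
   2876081776632756197630330459403644065300677625645187352335605886898473596509992517635, 1, 250451659161347623880652437166011659059202, 1,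
   1, 1, 1, 1,
   163317488586092358243610161045835651168255844245601648847710650370, 1, 163318787975939617356896582394059023351196316148861548162944663554, 1,
   164963005697712855492357660035196762329487067910460871499120508931, 846222315740578926109420824675236257072233518071811, 1, 1,
   738069544299808259483986726174190692577553462853634, 1, 1, 1,
   603607468786613775663774202929857386446045554802690, 1, 1, 265424301382336974735801318173855288262658,
   1, 1, 1, 268146601856079350722129343277280067780610,
   1, 146665817634491753405015122546124133236739, 248061676328509421307680110234236014237753945952489376690649563139, 1,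
   326637657537057132413468198794152066774816209941021971059105857538, 609455460144455194675369513244970320282294476865539, 1, 174013356088774937807261789478986923927033924830243699833772572674,
   1, 1, 1, 276313503277306478681113418587554406400002,
   1, 180184688664996753248667245959326351144253319089002661410986065923, 635761887484041015128400687711685880811730871844866, 1,
   1, 182240941646973042790001749818559768990439815452466218916568563714, 1, 14568986238698398650309355614187024308655826994294087091729488152420466443186673113740451512323,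
   1, 653296740345206538547925189885245460899448646533123, 1, 282438710497007975859317246253238135816194,
   1, 977759470198053895295062059401915521363361121239043, 1, 1,
   1, 3452815540975108098614674728448643212431708942790734747934370461192463491119485222914, 1, 349675066589727611557148735362039961316412863220505217866002792451,
   167763635921401450229402060036673516273667, 1, 1, 192115544578300387493928697381139967863871825363047682746602946562,
   1, 192114044316791493020055827684582487153030541923704786149120344066, 1, 15351214021504855557246211187680201696907704443892137068155898186127491586428661774909603315715,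
   1, 3604587242936311060123523382045644412047813961199274130035713096533122747297899020291, 1, 297411342333403609644810870200089106513922,
   1, 1, 1, 198696087654579201938692325484235528135805081503867402520060952579,
   1053758714997747776376533236973803798673148967059458, 1, 1, 1,
   1, 1, 729299687167285376350440904556953461663378509594627, 1,
   1, 732220192702678669735803665422911826650369693581314, 1, 1,
   309661684080650584513631726104507956068354, 1, 208158881299833318694359326693834378511663365070943634964928069635, 1,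
   311703419820551083573033001993069199163394, 1, 177972470389809701571237295394369609007107, 1,
   209392017941209581110179306780767269976106310057583262278546292738, 295029625379799967141948674472883190693890, 1, 210214776496588674324427765335301129892112665452654195563339186179,
   180014216514303917700293828343923510607875, 1, 1, 1,
   928067656293939069375443256450584249753304283348994, 3930977932390715113785838834324748939011467544939154247841558629267957059685486034947, 1, 1,
   1, 323953761567798058441853857897488048652290, 1, 761453949760176873911297012072922853193338088849411,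
   1, 767295785972827624187383317813256376424859809153026, 1, 296390952154764345319252057061470774296579,
   1, 1, 776069144546253211368893781442686156152373435629571, 1,
   257598814248745945832703637119212490522626, 1, 4067508268131381031514088819276983823796989788561011514878096658774621086012819898370, 1,
   1, 4075082575955116484627460622449705508367362458079220477444018747992434593115485044739, 1, 335523548965796873453403221648036020158466,
   1, 787761469761075112736678174991325298799001428164610, 4173764878961356775381379066170830691470361609051826964736059903441009577473269170178, 14747462302717511121486046453420642679461896795660795456966236579430402,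
   12288050551163571748683197992062203044460429316, 340625510243507683988319833320453090508804, 20004109068612981890761363426419138266498859012, 341988436245904490892532803301910074884100,
   370241946443865524313368814612149749782711639884609595949105479682, 1, 339266769232458084317708170000704713392130, 1,
   222556192483661526732587334097736944114026914863912902583924228099, 1, 345732175742330783402133315785878943236098, 1,
   1, 223378957316813095441970657681952831755797478240145958026190520322, 348454465831479442318806083828311064313858, 1,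
   343690543848367455039284610507244284739587, 1, 796530524201523569528135917914208423221503664128003, 1,
   1, 1, 1, 355260217015835382284626146586873013272578,
   1, 230783765487943690932904794316454536505695051240866644908979126275, 1, 1,
   1, 1, 360024242844884540260700190517866377576450, 1,
   235720304268409821115407356944957068540592327887290449409506934787, 1, 837453194576204651296565899189676594672608537870339, 4348272125816299331265075089118851335408557358052995658260733096654161107469299744771,
   1, 362066009738566190529067237589405595992066, 1, 1,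
   366829994029240480226520253276428326338562, 1, 1, 237365821379934495007786769221692605110561367009267222205951901698,
   1, 1, 272571840699702828265097029383784482734082, 1,
   1, 372955170095160826195758309759134080499714, 1, 1,
   245593406938228576808357970912302630506931748775108131630795325443, 1, 1, 1,
   377719195924209984171832353690127444803586, 1, 1, 4666993093641713022719159962549855682085035071648040178925765969576799629966603649027,
   1, 252998227691435043106829366335043410513966909920198553417605120002, 274613690670134215090706132943264969064450, 1,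
   253820954834007790490059256419130216245151760285987555195174518787, 1, 901760247872650954101043390364494495677910533013507, 1,
   383844403143911481350036181355811174088706, 1, 1, 254643719666871861361405783553248398908413443510416946221714046978,
   387927822700743894120562447827970368012290, 1, 4727702191283369922268565898056588882328650129111884423150056856152840639338683170819, 2456421758515620212419431429853312556062236203554159818013854619937146758711583589993647183472558082,
   17885589318644530703211298674753685602117681156, 13180132081038032253869455906487672839503282180, 393029202441206548754784664084807151190020, 8162465771812726545451175901674195712271908868,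
   4059130356710503382676525539265525834416521220, 8229369707304002336875930705834273027495297028, 395750308686671461730758127174076205105156, 4014529546893752868845985512355035463928709124,
   8407776353600434056995935826332010853816401924, 16168438404937641684041003836953439110785138692, 398474416079720607837100880890214972653572, 24152105524466283195444995116693425253812142084,
   399837404389679717159245393237627909570564, 3903027865207026598612105998390277909205352452, 8318579497982377484775762191297900109251674116, 16034638017228322339906977985126387069779050500,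
   24553523021371122197810316502182549495396368388, 402557773328990718189695604996431101165572, 403240321520232555420776452860892397109252, 17907891084679777495451155127893095274851532804,
   405280468417294342822923398417572603297796, 10169545090904920341115180063918637042629279748, 4861969435082043528697600914786955643452653572, 10191847535594135731291146876508038921160294404]

set_option maxRecDepth 100000 in
theorem check_1 : run facts altRels altSubs 300 199 steps_1 = some 359 ∧ 300 + steps_1.length = 600 := by
  decide +kernel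

def steps_2 : List ℕ :=
  [408000930817948797480270923725296833462276, 4705864899272639899159382296513223465434939396, 9968842808474297890367980870300723917529612292, 18487728154898498959745691487715734853077565444,
   18733037032636685062462441660207020700512616452, 411405743136855000953886396979700023230468, 411405727559964425349403511388215330537476, 145220616098001686812094930858967087575391391620926801269221431892003934159103644039905282,
   12511131504098594527938384642675647950820081668, 414126553421398977444685033830678316318724, 19914979588862037289488676918529055045701009412, 15700138748858013492127817564835805449341763588,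
   416511079407603087289294264556402640420868, 415489406731639764861311204385186691874820, 23483100184155245824531336060032311930724220932, 418212496434504638141438766124066406596612,
   65150330497787685865864102627787203584535802272302418499169059476509323576066895562932227, 18086323927578088237883367575990413972792147972, 420252934100190503493932909388532452687876, 14629709103190958396470760935786951222921723908,
   421954356319388912880905039486688240205828, 286959878538279763848743159938649593030647548062703883120131655781296420907112986218332162, 423316856553443319929252469967441942937604, 423316877322630754068562984089431554785284,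
   4530398724168957589829258970700194669454953006313407518878687686536789786459512373251, 5338239754726267155148809128250303133121528059167881005082423171809283, 426037594145831276932464307391471623667716, 426037578568940701327981421799986930974724,
   13399189347352979258852890661293973157752595827024749983155887328591874, 427740376746806622444275112479661385711620, 427740361169916046839792226888176693018628, 131229955149726453286405298563253564025772154213155051818206494723,
   274389987780495653180446047332027108279358729342311278040084971522, 1424714369415914960725309274497415948581079063910433677306250636312112647563884591434043259128446979, 431143548299905528912359970097241714262020, 1,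
   390650756634703011355861153651947312381954, 1, 217447052641132767592313992591162609696771, 1,
   259992450615928515448250178859688661263273276275633207994328547331, 1, 260403048388800586365832115949046431838692576728210876669491216387, 1,
   261638457345506879873579700431741193947234928386263854044282945538, 436929241612700378944122156750609056858114, 1, 936836911506770408985682825370272714638260740227074,
   1, 278697992917432578781929249599800130863107, 1, 1,
   264516822336594491158987240130512925477388059162314520301418053634, 443054407294027007843704956172322152382466, 1, 266574029445505622845995203673291826561391615014159693812786855938,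
   265339599724045308683275506471949479102705202747515732716479119363, 1, 435908539896249602528905631782210970779651, 1,
   271098941016556084175897732269298506613816906700691635425066418178, 256239470931181527959554353180222672142338, 1, 1,
   451221308715254135802689031482596491198466, 1, 346797906779280944613487313724655874535809197386824028500514308099, 273567254347028286701000968149901290812205763391434445118242553859,
   232419767554278137935049673025954848178179, 6397245335636812514944626404244042984582946425047253425958307673609134504747885920259, 1, 1433754938986009936158319585148664280196268846612482,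
   1, 1, 277681053430719496555129370223607139737575252106828502826097770498, 22000159625920300274937502766751189111964655137831565359306789924107134398307392249849408585730,
   293670676676796797915699158851614393958402, 1, 989451684234802583763123253941606037084577743241219, 1,
   1, 281794821074688029589341901115466117006642826798359919914928701443, 1, 1001143831142685003352353305654409466941002286759939,
   1, 463471692000875978950130915630985974513666, 23043131493935765022729578795937212590226132020212932036778263977170102509386593226863708864514, 1,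
   1385524492909990515760086098958973671137903762407426, 1, 1, 469596836913015173710403200930713753157634,
   1, 1, 1, 22717204745526922397466622229927312755075235248209254877649906368991306205413306837111392305154,
   472319137386757549696731226034138532675586, 1, 1021605210886088318006025313978806387298085288476675, 5304438039886860737612204549326591632779934359454976057076272947260489666267644887043,
   1, 574289878519270980727951027863108341359824097088745596780441698306, 287554187473019533262311349096328749160078398266601898583699947522, 281420791851673374111709613630872516755458,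
   1, 417193497791502689312217110240118666952706, 1, 23173674371196387563784526313984763356763197586317843769840943592389263460794845687216159129602,
   1, 5425856466757886651539084208135086906929237723394374225778593530765890569619110625283, 1, 294136268442671341550709434189937525751522086331304253815306059779,
   1, 294136293648009241364710004802652392968321525861075607308649365506, 483888924784756364708280589784686504181762, 1,
   294959020721619550563219664660504284997595175331599745280371392515, 1, 1047912641782347387518252560834561517980068933861379, 1,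
   294959045882324203179964687095049068581665722387407891649654489090, 487291821146121768830501135285952795443202, 1956980419734053373101924736014830966863682918547458, 1,
   297427290111804827476721160977190202759556664076919777162918035458, 425360471904885836758787984977341614850050, 1, 1,
   494778116295132151583937433137392963878914, 1, 304009433904004473737996651450498528355192831060315678260763820034, 5607984223211659269804284275127416209774618011814197441505117817933868740002578694146,
   1, 1, 1085906577303312041031934796138449509483110766804994, 10457131357696178890323792886721014625585600378477342251830984645816273130927951183875,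
   37070209284918037652903199094926714167587762421002077727734945785249795, 501583394980394736717910588539121700241412, 501583379403504161113427702947637007548420, 305654863134573055295126233795072391478401599862380974595695247363,
   1, 5653514367432872238683545386263430810333922640859350974462169247205322682304659062786, 610488147827091226344439514911717556709125219013272592245232828419, 1,
   306477627967437123227323793702594432402667413727316408611575824386, 24281659314095333655135792975063843168116540217766092778142835075252047445786796203388370812930, 505667318190101655529249533551092082016258, 1,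
   258962643710796137796923971407030762536963, 1, 1091758359946408834772996359778222388847990325837827, 1,
   476062835344729745765177999192469515272195, 1, 1, 1103450506858374642765277673052586313993596087959555,
   1, 1118059301106673152577086727364028589877812442955778, 5805287690144084817605571314857270986427119835826648805403185440820500841652746452994, 1,
   314705295146444120758769991000011390181521337092097954947998154755, 1, 314705276277878886175619852074155790542676652750363292646741114882, 24933520773017451368115824246476453939516697407517779222607092723396567477944012249902668840962,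
   517237105588100470540798897301640053522434, 1, 5850819687077597162719840914628202360679324291495376829615468028988622115334287917058, 1,
   630237874629134471261108416024095207748730983691472477852922675203, 1, 317173570777524826853084598366916410666808979911379056319040192514, 25129079210715347545996307404134772771395923708181663096548153781519183195955333497137999511554,
   522681706535585222513454947508489612558338, 1, 1, 1129757982353401850403383695272070993112848599547907,
   5865996787780439180904430914480181997627312373909713973038075139591832149629415129090, 1, 317996323055227289858517167749412874261018734486098368544641056770, 526765178015386220632257499285612098682882,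
   1, 318824385807547982814092199379125510828448850832251921827188703235, 1, 318821404241597050323466853127091919170718981439532381178597212162,
   531529183075247944469021029094620145909762, 1, 1, 1182372799392323083584308334793669061950298051379203,
   1, 332805951951596343105032963626689087955613615958787676936157593602, 534932069052019631521586317534893779255298, 6898097186710575516039455235425119844319861453070517253631861258625813394604849430531,
   1, 1202834268274734013917993024502927333154720727236610, 1, 1,
   338565343445500485997863121144210473708689161505120680925660512258, 26823910052152260692519822600360915382597716016671631684578794773020917103642719016221141696514, 541057224348752543351513859895614216404994, 52083717143863726598149792058455463651108124728974210071326193013761482229068787547762106040323,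
   1, 341033625389505767799518320532639387196544937247656324351287820291, 1, 342683938234724361660098489916994138441750714548831212781511376899,
   1, 342681534136272172801560313424027295743279227732986182900170883074, 546501835680831012393825167163456433946626, 1,
   6412377277025544408330158428362883123914373732471459710298982915860315886163707756546, 1, 347615687602371944518535003229017148619457927180165580750788427779, 545481040503036782351711328646124421709827,
   1, 348438439897602643865504999328680828461182001895283382984488779779, 27606137341111170880774046799051337019397059971875576426958397358602308109521709351081073704963, 1,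
   668907834333505270850582260236128147879183136403802498162868092930, 1237910753799617502206270077323017119071106577465347, 1, 348438421006337371696311973967405685557823339505767421270545399810,
   553307628403561820638266258165989016600578, 7247212651079857407656465015788004886144107577167461886819160630366388839192554897410, 1, 380784509913020887940956360442053167349763,
   1, 1, 1264218140095066635545155747337709883061304162844675, 1,
   360779855861208623397254591656134129147304743058561006121185443842, 2138209432701218168668709530987905486241910860021762, 1, 1,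
   362425404358432860949525920846430600259678031013220522748305801219, 301839094248706618044350765066816868646915, 2247825846682845433104318255430674167891473330733059, 1,
   582106106765231017523247462115204356744013501859534790327709597698, 1290525615586010350934273337299081496281448871493635, 1, 363248137805980503738522440988242213449502906055754426868104560642,
   481508256675118146240599357217739093442562, 8051607096186893843784586624169306025808859341862882781135283098516683338641835819010, 1, 366539216037129213745218651627626514187191499361242472803565830147,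
   1, 366539184559478714813110455852601282333204190721223021999775809538, 573724840418254772257105418197704229519362, 11147750348823501737146769261067323695337990694336992901448803504335103540139841814530,
   1, 503626714370916317062271277310730612113410, 1, 376007734428572268175911288236782833432506003046169939882998759427,
   1, 1359215612636797775835345295753294176741675223482371, 1, 1367979158728868630907549085435736272055420779823106,
   1, 497161432476168222813709216257468284141570, 1, 516217265792928210906968708395632620929026,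
   1, 528467451771269429730960708385161593487362, 1, 504647706855991171427834999986923135631362,
   1, 393692771796226268354861095264147578039114494942858200036679090179, 1, 393690254614065575810375731835691011710230386199078300459449188354,
   588697493023837840181909556266540517818370, 1, 563856911392390483558048981106999413768194, 1,
   398217557719211852423370635129436428599149875340959163423286231042, 7345817372891581650828427775883304957239637918399189678234360580736592368114603524098, 1, 396981269956864286275876692143563148647636237953333625248883802115,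
   2548897837740933271168952359887359727358966670688259, 1, 398629360819176241090441878087917078603158475395279164813946060803, 1,
   31582469362282947071780812178093852116247122759013697787892890924346190613630034224382171611138, 597544969563500562137475637852671051235330, 1, 400691407575536219916005619659851395971456263227809730688389218307,
   1, 600947845155678532120385669231952025616386, 7391360254361000990137947963501729584922136644551081669548467064067440654470369247234, 1,
   403975580790090725778852246758466046842818346066873364045895434243, 402740586124589362200084311734389937902861204961765192099545350147, 1, 402740604968346272937589637473332041220533308186382190004334624770,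
   403975599632889877956408868787769686421502623487733984085459730434, 604350731132450219172950957672225658503170, 1, 404386090682198276540615319440987740675081047265788938355853688835,
   1, 609114746576905660079369744542226364170242, 1, 13500238014512335416849161577207235520053925457941690749465593124945122795982597980162]

set_option maxRecDepth 100000 in
theorem check_2 : run facts altRels altSubs 600 359 steps_2 = some 468 ∧ 600 + steps_2.length = 900 := by
  decide +kernel

def steps_3 : List ℕ :=
  [1, 550245938637958174178826965700501097545730, 1, 417138857781705983771867447070224404940802486757424823522264285187,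
   1, 7672086827113335893559038775831951604890762366503622203655482264556163277529959825410, 1, 1,
   419195681915956648544813067150264541091268114894238658757155422210, 1992061142256586844074173625512249121782911169789954, 1, 423313780814143753120481559723107075410499384478507532954110132226,
   420841199027577097562177842828408799876053612127803944699271708675, 2176209211185525022232377493267790190773468873752579, 1, 1800592697666821011176369746188229325818221423689730,
   1, 2646819807868888798903651287051432648963850273816579, 553309369061892135505721696582932050681501694130483711198732484611, 1,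
   427013046332271180797414833046815674919778446971658658161157799939, 364451963606406397451274314201616164913155, 1, 518343608718033956534859921827845290482132739046014234036770570243,
   1518523439152343357850948955956725483304768598573058, 1, 439767822096574380506641819473498674231584061165764873915003043842, 521662479431442269989284925201049029705730,
   1, 1557979277859144483655726823034665814038458867318787, 1, 441413301548745627698350443971050251077621571221544084545194754050,
   35070141519712970288280160994742351702256593923734698241760054172001282378711728355410889998339, 1, 8309531657465662924509382294439011903830056320013694663180419107461976153514707517443, 1,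
   35754350373840181466757148552055771457513435269089383657788241510593548756075960267774335975426, 12802079568997783076309460982137004223369162702201864484460468824672150576454530826243, 1, 610898243383263148540725645497723846610659775008205427933796106243,
   1617900108969500710532667692960674726370022122061827, 1, 465273544503375776143776245286688455240192833277552377996574392323, 1,
   466507572440805675856655890711542469665306179643335253634689728514, 465273494299588293677364979209041367007260313807507876260073373698, 641101777143378577918724039507467525357570, 1,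
   468153139802284210681200858824435909456524822092552636486968934403, 1, 471032860639206070694844433533132742503975324072315473446652149762, 468561308252305943368818339624429207113354572422650444252006645763,
   1, 1671995428133151531747236379776091847467487931531267, 1, 41425473449451684501047602463542233143820182570004681626253144213112707583045465050057422667778,
   2597128105475305477975848639142441890951331771318274, 1, 525742704608102718981047064402249188098026206355348818232426954754, 9698241121089191672817290245986629261409930542735676456428222930845756783628105875458,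
   1, 524508519787860435782021169736575446676774237272733510149146738691, 2800279955158080086826413855941130330989688368201731, 1,
   541792663825026122388663073520207709600175158308999522818395340803, 1869288760633957079265528595383547511466753056702467, 1, 1,
   529445064753668488106080216160737823992068147451011298468783980546, 531506044486159008980000371302372181398538659034817786165993406467, 1885373775140044277672116921430232134020412992126979, 1,
   482870767293766270358602044759489744011267, 1, 1908749795469855530051986278106996458524023070916611, 1,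
   1913121454962055780461129702631240996086958542356483, 1, 547140277439629279892479319448243259192765228393551077671232143363, 1,
   551659614810627337538702765984544605473144558934990052185366528003, 1, 551659633654192776948663709124592659694512167098583956569793691650, 666963631643931149788840277990002931466242,
   1, 10282564129994814771115857761253947110124608875978802118656957995227428884664261672963, 1, 558660334699107123644113192432570881839258774495736796903980531714,
   557418937296162707330955466724371314772296408485448500477215506434, 670366507236109119771750309369283905978370, 1, 562774491559207312817039829472189139083410836265424599482906771458,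
   561536979746217446552022959808639968797680310287329504349680107522, 569302685798965264401749079206019381133314, 1, 500905971586231501524231811356204604522498,
   1, 567292058756290905180998413161968623097087526978919460928191725571, 2731588196210948452153521581617699394139079586086914, 1,
   569764678277208554860669183013035030313650001040760289441536409603, 1, 569764665752027523678564308572802454553175699939166801696835895298, 574701254665498127476573716304472854866039097682895719693937672194,
   680575134012643029720480403507126829449218, 1, 2081206542531711983765363403156428400826181447450626, 1,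
   591567801965571244744098853161211721059684217708962554189385105410, 590333748891479342850374028196143893797667583921108207718672171010, 555691567660220916047353464945623847206914, 1,
   598556865081980805487417321262434073396119940844417639448992350210, 599797377407547390674847315706111470341379845972063762666669277187, 1, 616657609803720834095276121443897686111025229572615546239026987011,
   656415220960974720720099148172375847600131, 1, 49182573587662580916794278195056981141778396795782109629741649237601014313307436382564464132099, 614900803350401379386533217248678101319683,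
   1, 636408617200511298174245352881706661225038589768672807123280855043, 12301228183157864514229105323580300673190967008038651100744418417403998753012402225154, 1,
   650395594240544963889176468049776395328374484283953014132366049282, 646276993104011111664193516298790134953557028727379430823409680387, 1, 647104572584725322359299229590957075859033999310558799213596508163,
   648335995480301272060197041851454036771452920110576877871099805699, 665943251849885602532936721912377259851779, 1, 653271492254313366462837565348249114593819512887714362822622838787,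
   652041174137358996512200651960928376547113348550165439365530648579, 579511572190342101091860599868678768033795, 1, 699348632886625468721926055332267688571834343130126152955141750787,
   3003431760258080534948757165895425309287569984258050, 1, 850327436106506292986198867492935611395916427202773289950030856195, 2486050123068107221793165977137293356439026920325122,
   1, 593803535446958687253874903990739618824194, 1, 595845250417671752173965665757315545038851,
   1, 706338738032380382708022844901504743837257052310899766327528128514, 2763741745227973607777570107662469764728210806013954, 1,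
   2537197885688950066173186302039734117781804742606851, 1, 716627623401045831367292250935720312358292123909436800521619439619, 3018046910493708913459998158270500314552588818776067,
   1, 721971232314202594179960271340766169402252332351377140415699091459, 2569354757458821071579072605659114001483283672334338, 1,
   2592735750722782006768797249768298007705005543325698, 1, 745831311930475280591288422048918992852743516056749719510800924675, 753242711190128400753419644612721024136003053962278539752069660675,
   1, 720048501266501198591892024567778795585538, 1, 704735815524246401875350681355334543147011,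
   1, 763932163397811392054538834781786450683154230001305977387256643587, 765169807085586154920980183823258130372173009085924313628990767107, 706777530494959466795441443121910469623811,
   1, 769282036757832745588999951283168640694083110482395279056064086019, 768046125613159983800087848987495391394778701916608714549456142339, 639401663382988519308314299094390997647363,
   1, 795198181187372052830788194567254376406076355006223308460672286722, 711541566708602341841170744113896493023234, 1,
   800957553885985635900806630007991707485141493279651719921882169347, 714944421531592877684770261371192150654979, 1, 802603083465319177840206075739591822588104787562556424306184814595,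
   803837588565636840672655079620702791925334676151901448877280198659, 678874521791754551766618324166402695626755, 1, 826467268521252232264653228823534257812944650975293519552843546626,
   822349671776549990316393169216345187480680411506358823701274361859, 2925960220359402557823035087946886792183287956307970, 1, 834691615050128678711666996573940973715891574422553138102066479107,
   2969806986644876750571604922580424295519134964252675, 1, 837159915756285669315199207823727029167250047280051392853808578563, 2978576509383960071237414807326427788087772563177474,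
   1, 740125493221835514165199352358018193489923, 900104633191592019612268734894006293066284104417425670928344940546, 1,
   742167218577142296154945371185586778275843, 902572959076650718870054953405444516495352642669977586217720152066, 1, 3158353208612307681639760180257512931653212072574979,
   1, 875421443375810708864091690148654472590676767650165338481890492418, 3126199771179655958858775631214916559316850375196674, 1,
   749653513726152678908381669037026947366914, 909155084024423165914555059413709814397310276989993064145006493699]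

set_option maxRecDepth 100000 in
theorem check_3 : run facts altRels altSubs 900 468 steps_3 = some 542 ∧ 900 + steps_3.length = 1106 := by
  decide +kernel

variable {G : Type*} [Group G] {g : ℕ → G} {K : Subgroup G}

/-- All identities of the derivation hold. -/
theorem derived (hr : ∀ w ∈ altRels, eval g w = 1) (hs : ∀ w ∈ altSubs, eval g w ∈ K) :
    Inv g K facts 1106 542 := by
  have hl : ∀ w ∈ altRels, ∀ x ∈ w, x < 10 := by decide +kernel
  have h0 : Inv g K facts 0 1 := inv_zero facts
  have h1 := run_next hr hl hs check_0.1 check_0.2 h0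
  have h2 := run_next hr hl hs check_1.1 check_1.2 h1
  have h3 := run_next hr hl hs check_2.1 check_2.2 h2
  have h4 := run_next hr hl hs check_3.1 check_3.2 h3
  exact h4

def node_0 : T := (.node 16 (.node 8 (.node 4 (.node 2 (.node 1 (.leaf 0) (.leaf 1)) (.node 1 (.leaf 2) (.leaf 3))) (.node 2 (.node 1 (.leaf 4) (.leaf 5)) (.node 1 (.leaf 6) (.leaf 7)))) (.node 4 (.node 2 (.node 1 (.leaf 8) (.leaf 9)) (.node 1 (.leaf 10) (.leaf 11))) (.node 2 (.node 1 (.leaf 12) (.leaf 13)) (.node 1 (.leaf 14) (.leaf 15))))) (.node 8 (.node 4 (.node 2 (.node 1 (.leaf 16) (.leaf 17)) (.node 1 (.leaf 18) (.leaf 19))) (.node 2 (.node 1 (.leaf 20) (.leaf 21)) (.node 1 (.leaf 22) (.leaf 23)))) (.node 4 (.node 2 (.node 1 (.leaf 24) (.leaf 25)) (.node 1 (.leaf 26) (.leaf 27))) (.node 2 (.node 1 (.leaf 28) (.leaf 29)) (.node 1 (.leaf 30) (.leaf 31))))))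
def node_1 : T := (.node 16 (.node 8 (.node 4 (.node 2 (.node 1 (.leaf 32) (.leaf 33)) (.node 1 (.leaf 34) (.leaf 35))) (.node 2 (.node 1 (.leaf 36) (.leaf 37)) (.node 1 (.leaf 38) (.leaf 39)))) (.node 4 (.node 2 (.node 1 (.leaf 40) (.leaf 41)) (.node 1 (.leaf 42) (.leaf 43))) (.node 2 (.node 1 (.leaf 44) (.leaf 45)) (.node 1 (.leaf 46) (.leaf 47))))) (.node 8 (.node 4 (.node 2 (.node 1 (.leaf 48) (.leaf 49)) (.node 1 (.leaf 50) (.leaf 51))) (.node 2 (.node 1 (.leaf 52) (.leaf 53)) (.node 1 (.leaf 54) (.leaf 55)))) (.node 4 (.node 2 (.node 1 (.leaf 56) (.leaf 57)) (.node 1 (.leaf 58) (.leaf 59))) (.node 2 (.node 1 (.leaf 60) (.leaf 61)) (.node 1 (.leaf 62) (.leaf 63))))))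
def node_2 : T := (.node 16 (.node 8 (.node 4 (.node 2 (.node 1 (.leaf 64) (.leaf 65)) (.node 1 (.leaf 66) (.leaf 67))) (.node 2 (.node 1 (.leaf 68) (.leaf 69)) (.node 1 (.leaf 70) (.leaf 71)))) (.node 4 (.node 2 (.node 1 (.leaf 72) (.leaf 73)) (.node 1 (.leaf 74) (.leaf 75))) (.node 2 (.node 1 (.leaf 76) (.leaf 77)) (.node 1 (.leaf 78) (.leaf 79))))) (.node 8 (.node 4 (.node 2 (.node 1 (.leaf 80) (.leaf 81)) (.node 1 (.leaf 82) (.leaf 83))) (.node 2 (.node 1 (.leaf 84) (.leaf 85)) (.node 1 (.leaf 86) (.leaf 87)))) (.node 4 (.node 2 (.node 1 (.leaf 88) (.leaf 89)) (.node 1 (.leaf 90) (.leaf 91))) (.node 2 (.node 1 (.leaf 92) (.leaf 93)) (.node 1 (.leaf 94) (.leaf 95))))))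
def node_3 : T := (.node 16 (.node 8 (.node 4 (.node 2 (.node 1 (.leaf 96) (.leaf 97)) (.node 1 (.leaf 99) (.leaf 100))) (.node 2 (.node 1 (.leaf 101) (.leaf 102)) (.node 1 (.leaf 103) (.leaf 104)))) (.node 4 (.node 2 (.node 1 (.leaf 105) (.leaf 106)) (.node 1 (.leaf 107) (.leaf 108))) (.node 2 (.node 1 (.leaf 109) (.leaf 110)) (.node 1 (.leaf 111) (.leaf 112))))) (.node 8 (.node 4 (.node 2 (.node 1 (.leaf 113) (.leaf 114)) (.node 1 (.leaf 115) (.leaf 116))) (.node 2 (.node 1 (.leaf 117) (.leaf 118)) (.node 1 (.leaf 119) (.leaf 120)))) (.node 4 (.node 2 (.node 1 (.leaf 121) (.leaf 122)) (.node 1 (.leaf 124) (.leaf 125))) (.node 2 (.node 1 (.leaf 126) (.leaf 127)) (.node 1 (.leaf 128) (.leaf 129))))))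
def node_4 : T := (.node 16 (.node 8 (.node 4 (.node 2 (.node 1 (.leaf 130) (.leaf 131)) (.node 1 (.leaf 132) (.leaf 133))) (.node 2 (.node 1 (.leaf 134) (.leaf 135)) (.node 1 (.leaf 136) (.leaf 137)))) (.node 4 (.node 2 (.node 1 (.leaf 139) (.leaf 140)) (.node 1 (.leaf 141) (.leaf 142))) (.node 2 (.node 1 (.leaf 143) (.leaf 144)) (.node 1 (.leaf 145) (.leaf 146))))) (.node 8 (.node 4 (.node 2 (.node 1 (.leaf 147) (.leaf 148)) (.node 1 (.leaf 149) (.leaf 150))) (.node 2 (.node 1 (.leaf 152) (.leaf 153)) (.node 1 (.leaf 154) (.leaf 155)))) (.node 4 (.node 2 (.node 1 (.leaf 156) (.leaf 157)) (.node 1 (.leaf 158) (.leaf 159))) (.node 2 (.node 1 (.leaf 160) (.leaf 161)) (.node 1 (.leaf 162) (.leaf 163))))))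
def node_5 : T := (.node 16 (.node 8 (.node 4 (.node 2 (.node 1 (.leaf 164) (.leaf 165)) (.node 1 (.leaf 166) (.leaf 167))) (.node 2 (.node 1 (.leaf 168) (.leaf 169)) (.node 1 (.leaf 170) (.leaf 171)))) (.node 4 (.node 2 (.node 1 (.leaf 172) (.leaf 173)) (.node 1 (.leaf 174) (.leaf 175))) (.node 2 (.node 1 (.leaf 176) (.leaf 177)) (.node 1 (.leaf 178) (.leaf 179))))) (.node 8 (.node 4 (.node 2 (.node 1 (.leaf 180) (.leaf 181)) (.node 1 (.leaf 183) (.leaf 184))) (.node 2 (.node 1 (.leaf 186) (.leaf 187)) (.node 1 (.leaf 188) (.leaf 189)))) (.node 4 (.node 2 (.node 1 (.leaf 190) (.leaf 191)) (.node 1 (.leaf 195) (.leaf 196))) (.node 2 (.node 1 (.leaf 197) (.leaf 198)) (.node 1 (.leaf 199) (.leaf 200))))))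
def node_6 : T := (.node 16 (.node 8 (.node 4 (.node 2 (.node 1 (.leaf 201) (.leaf 202)) (.node 1 (.leaf 203) (.leaf 204))) (.node 2 (.node 1 (.leaf 205) (.leaf 206)) (.node 1 (.leaf 207) (.leaf 208)))) (.node 4 (.node 2 (.node 1 (.leaf 209) (.leaf 210)) (.node 1 (.leaf 211) (.leaf 212))) (.node 2 (.node 1 (.leaf 214) (.leaf 215)) (.node 1 (.leaf 216) (.leaf 217))))) (.node 8 (.node 4 (.node 2 (.node 1 (.leaf 218) (.leaf 219)) (.node 1 (.leaf 220) (.leaf 221))) (.node 2 (.node 1 (.leaf 222) (.leaf 223)) (.node 1 (.leaf 224) (.leaf 225)))) (.node 4 (.node 2 (.node 1 (.leaf 226) (.leaf 227)) (.node 1 (.leaf 228) (.leaf 229))) (.node 2 (.node 1 (.leaf 230) (.leaf 231)) (.node 1 (.leaf 232) (.leaf 233))))))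
def node_7 : T := (.node 16 (.node 8 (.node 4 (.node 2 (.node 1 (.leaf 235) (.leaf 236)) (.node 1 (.leaf 238) (.leaf 240))) (.node 2 (.node 1 (.leaf 241) (.leaf 242)) (.node 1 (.leaf 243) (.leaf 244)))) (.node 4 (.node 2 (.node 1 (.leaf 245) (.leaf 246)) (.node 1 (.leaf 247) (.leaf 248))) (.node 2 (.node 1 (.leaf 249) (.leaf 250)) (.node 1 (.leaf 251) (.leaf 252))))) (.node 8 (.node 4 (.node 2 (.node 1 (.leaf 253) (.leaf 254)) (.node 1 (.leaf 255) (.leaf 256))) (.node 2 (.node 1 (.leaf 261) (.leaf 262)) (.node 1 (.leaf 263) (.leaf 264)))) (.node 4 (.node 2 (.node 1 (.leaf 267) (.leaf 268)) (.node 1 (.leaf 269) (.leaf 270))) (.node 2 (.node 1 (.leaf 271) (.leaf 273)) (.node 1 (.leaf 274) (.leaf 275))))))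
def node_8 : T := (.node 16 (.node 8 (.node 4 (.node 2 (.node 1 (.leaf 277) (.leaf 278)) (.node 1 (.leaf 279) (.leaf 280))) (.node 2 (.node 1 (.leaf 281) (.leaf 282)) (.node 1 (.leaf 283) (.leaf 284)))) (.node 4 (.node 2 (.node 1 (.leaf 285) (.leaf 286)) (.node 1 (.leaf 287) (.leaf 291))) (.node 2 (.node 1 (.leaf 293) (.leaf 294)) (.node 1 (.leaf 295) (.leaf 298))))) (.node 8 (.node 4 (.node 2 (.node 1 (.leaf 299) (.leaf 300)) (.node 1 (.leaf 301) (.leaf 302))) (.node 2 (.node 1 (.leaf 303) (.leaf 304)) (.node 1 (.leaf 305) (.leaf 306)))) (.node 4 (.node 2 (.node 1 (.leaf 307) (.leaf 308)) (.node 1 (.leaf 309) (.leaf 310))) (.node 2 (.node 1 (.leaf 311) (.leaf 312)) (.node 1 (.leaf 313) (.leaf 314))))))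
def node_9 : T := (.node 16 (.node 8 (.node 4 (.node 2 (.node 1 (.leaf 315) (.leaf 316)) (.node 1 (.leaf 317) (.leaf 318))) (.node 2 (.node 1 (.leaf 319) (.leaf 320)) (.node 1 (.leaf 321) (.leaf 322)))) (.node 4 (.node 2 (.node 1 (.leaf 323) (.leaf 324)) (.node 1 (.leaf 325) (.leaf 326))) (.node 2 (.node 1 (.leaf 327) (.leaf 331)) (.node 1 (.leaf 332) (.leaf 333))))) (.node 8 (.node 4 (.node 2 (.node 1 (.leaf 334) (.leaf 335)) (.node 1 (.leaf 336) (.leaf 338))) (.node 2 (.node 1 (.leaf 342) (.leaf 343)) (.node 1 (.leaf 344) (.leaf 347)))) (.node 4 (.node 2 (.node 1 (.leaf 348) (.leaf 349)) (.node 1 (.leaf 351) (.leaf 352))) (.node 2 (.node 1 (.leaf 353) (.leaf 354)) (.node 1 (.leaf 355) (.leaf 356))))))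
def node_10 : T := (.node 16 (.node 8 (.node 4 (.node 2 (.node 1 (.leaf 357) (.leaf 358)) (.node 1 (.leaf 359) (.leaf 360))) (.node 2 (.node 1 (.leaf 361) (.leaf 362)) (.node 1 (.leaf 363) (.leaf 364)))) (.node 4 (.node 2 (.node 1 (.leaf 365) (.leaf 366)) (.node 1 (.leaf 367) (.leaf 368))) (.node 2 (.node 1 (.leaf 369) (.leaf 370)) (.node 1 (.leaf 371) (.leaf 372))))) (.node 8 (.node 4 (.node 2 (.node 1 (.leaf 373) (.leaf 374)) (.node 1 (.leaf 375) (.leaf 376))) (.node 2 (.node 1 (.leaf 377) (.leaf 378)) (.node 1 (.leaf 379) (.leaf 380)))) (.node 4 (.node 2 (.node 1 (.leaf 381) (.leaf 382)) (.node 1 (.leaf 383) (.leaf 385))) (.node 2 (.node 1 (.leaf 386) (.leaf 387)) (.node 1 (.leaf 388) (.leaf 389))))))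
def node_11 : T := (.node 16 (.node 8 (.node 4 (.node 2 (.node 1 (.leaf 390) (.leaf 391)) (.node 1 (.leaf 392) (.leaf 393))) (.node 2 (.node 1 (.leaf 394) (.leaf 395)) (.node 1 (.leaf 396) (.leaf 397)))) (.node 4 (.node 2 (.node 1 (.leaf 398) (.leaf 399)) (.node 1 (.leaf 400) (.leaf 401))) (.node 2 (.node 1 (.leaf 402) (.leaf 403)) (.node 1 (.leaf 404) (.leaf 405))))) (.node 8 (.node 4 (.node 2 (.node 1 (.leaf 406) (.leaf 407)) (.node 1 (.leaf 408) (.leaf 409))) (.node 2 (.node 1 (.leaf 410) (.leaf 411)) (.node 1 (.leaf 412) (.leaf 413)))) (.node 4 (.node 2 (.node 1 (.leaf 414) (.leaf 415)) (.node 1 (.leaf 416) (.leaf 417))) (.node 2 (.node 1 (.leaf 418) (.leaf 419)) (.node 1 (.leaf 420) (.leaf 421))))))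
def node_12 : T := (.node 16 (.node 8 (.node 4 (.node 2 (.node 1 (.leaf 422) (.leaf 423)) (.node 1 (.leaf 424) (.leaf 425))) (.node 2 (.node 1 (.leaf 426) (.leaf 427)) (.node 1 (.leaf 428) (.leaf 429)))) (.node 4 (.node 2 (.node 1 (.leaf 430) (.leaf 431)) (.node 1 (.leaf 432) (.leaf 433))) (.node 2 (.node 1 (.leaf 434) (.leaf 435)) (.node 1 (.leaf 436) (.leaf 437))))) (.node 8 (.node 4 (.node 2 (.node 1 (.leaf 438) (.leaf 439)) (.node 1 (.leaf 440) (.leaf 441))) (.node 2 (.node 1 (.leaf 442) (.leaf 443)) (.node 1 (.leaf 444) (.leaf 445)))) (.node 4 (.node 2 (.node 1 (.leaf 446) (.leaf 447)) (.node 1 (.leaf 448) (.leaf 449))) (.node 2 (.node 1 (.leaf 450) (.leaf 451)) (.node 1 (.leaf 452) (.leaf 453))))))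
def node_13 : T := (.node 16 (.node 8 (.node 4 (.node 2 (.node 1 (.leaf 454) (.leaf 455)) (.node 1 (.leaf 456) (.leaf 457))) (.node 2 (.node 1 (.leaf 458) (.leaf 459)) (.node 1 (.leaf 460) (.leaf 461)))) (.node 4 (.node 2 (.node 1 (.leaf 462) (.leaf 463)) (.node 1 (.leaf 464) (.leaf 465))) (.node 2 (.node 1 (.leaf 466) (.leaf 467)) (.node 1 (.leaf 468) (.leaf 469))))) (.node 8 (.node 4 (.node 2 (.node 1 (.leaf 470) (.leaf 471)) (.node 1 (.leaf 472) (.leaf 473))) (.node 2 (.node 1 (.leaf 474) (.leaf 475)) (.node 1 (.leaf 476) (.leaf 477)))) (.node 4 (.node 2 (.node 1 (.leaf 478) (.leaf 479)) (.node 1 (.leaf 480) (.leaf 481))) (.node 2 (.node 1 (.leaf 482) (.leaf 483)) (.node 1 (.leaf 484) (.leaf 485))))))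
def node_14 : T := (.node 16 (.node 8 (.node 4 (.node 2 (.node 1 (.leaf 486) (.leaf 487)) (.node 1 (.leaf 488) (.leaf 489))) (.node 2 (.node 1 (.leaf 490) (.leaf 491)) (.node 1 (.leaf 492) (.leaf 493)))) (.node 4 (.node 2 (.node 1 (.leaf 494) (.leaf 495)) (.node 1 (.leaf 496) (.leaf 497))) (.node 2 (.node 1 (.leaf 498) (.leaf 499)) (.node 1 (.leaf 500) (.leaf 501))))) (.node 8 (.node 4 (.node 2 (.node 1 (.leaf 502) (.leaf 503)) (.node 1 (.leaf 504) (.leaf 505))) (.node 2 (.node 1 (.leaf 506) (.leaf 507)) (.node 1 (.leaf 508) (.leaf 509)))) (.node 4 (.node 2 (.node 1 (.leaf 510) (.leaf 511)) (.node 1 (.leaf 512) (.leaf 513))) (.node 2 (.node 1 (.leaf 514) (.leaf 515)) (.node 1 (.leaf 516) (.leaf 517))))))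
def node_15 : T := (.node 12 (.node 6 (.node 3 (.node 1 (.leaf 518) (.node 1 (.leaf 519) (.leaf 520))) (.node 1 (.leaf 521) (.node 1 (.leaf 522) (.leaf 523)))) (.node 3 (.node 1 (.leaf 524) (.node 1 (.leaf 525) (.leaf 526))) (.node 1 (.leaf 527) (.node 1 (.leaf 528) (.leaf 529))))) (.node 6 (.node 3 (.node 1 (.leaf 530) (.node 1 (.leaf 531) (.leaf 532))) (.node 1 (.leaf 533) (.node 1 (.leaf 534) (.leaf 535)))) (.node 3 (.node 1 (.leaf 536) (.node 1 (.leaf 537) (.leaf 538))) (.node 1 (.leaf 539) (.node 1 (.leaf 540) (.leaf 541))))))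
/-- Packed data. -/
def node : T := (.node 256 (.node 128 (.node 64 (.node 32 node_0 node_1) (.node 32 node_2 node_3)) (.node 64 (.node 32 node_4 node_5) (.node 32 node_6 node_7))) (.node 128 (.node 64 (.node 32 node_8 node_9) (.node 32 node_10 node_11)) (.node 64 (.node 32 node_12 node_13) (.node 32 node_14 node_15))))
def nxt0_0 : T := (.node 16 (.node 8 (.node 4 (.node 2 (.node 1 (.leaf 2) (.leaf 0)) (.node 1 (.leaf 1) (.leaf 9))) (.node 2 (.node 1 (.leaf 12) (.leaf 15)) (.node 1 (.leaf 18) (.leaf 20)))) (.node 4 (.node 2 (.node 1 (.leaf 3) (.leaf 8)) (.node 1 (.leaf 4) (.leaf 26))) (.node 2 (.node 1 (.leaf 10) (.leaf 30)) (.node 1 (.leaf 5) (.leaf 14))))) (.node 8 (.node 4 (.node 2 (.node 1 (.leaf 6) (.leaf 37)) (.node 1 (.leaf 16) (.leaf 7))) (.node 2 (.node 1 (.leaf 19) (.leaf 45)) (.node 1 (.leaf 48) (.leaf 32)))) (.node 4 (.node 2 (.node 1 (.leaf 53) (.leaf 11)) (.node 1 (.leaf 25) (.leaf 34))) (.node 2 (.node 1 (.leaf 62) (.leaf 13)) (.node 1 (.leaf 29) (.leaf 68))))))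
def nxt0_1 : T := (.node 16 (.node 8 (.node 4 (.node 2 (.node 1 (.leaf 49) (.leaf 71)) (.node 1 (.leaf 59) (.leaf 75))) (.node 2 (.node 1 (.leaf 17) (.leaf 36)) (.node 1 (.leaf 80) (.leaf 82)))) (.node 4 (.node 2 (.node 1 (.leaf 84) (.leaf 87)) (.node 1 (.leaf 90) (.leaf 92))) (.node 2 (.node 1 (.leaf 21) (.leaf 44)) (.node 1 (.leaf 97) (.leaf 22))))) (.node 8 (.node 4 (.node 2 (.node 1 (.leaf 47) (.leaf 23)) (.node 1 (.leaf 102) (.leaf 24))) (.node 2 (.node 1 (.leaf 106) (.leaf 51)) (.node 1 (.leaf 110) (.leaf 112)))) (.node 4 (.node 2 (.node 1 (.leaf 103) (.leaf 117)) (.node 1 (.leaf 119) (.leaf 27))) (.node 2 (.node 1 (.leaf 28) (.leaf 123)) (.node 1 (.leaf 60) (.leaf 127))))))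
def nxt0_2 : T := (.node 16 (.node 8 (.node 4 (.node 2 (.node 1 (.leaf 130) (.leaf 132)) (.node 1 (.leaf 134) (.leaf 31))) (.node 2 (.node 1 (.leaf 67) (.leaf 138)) (.node 1 (.leaf 33) (.leaf 70)))) (.node 4 (.node 2 (.node 1 (.leaf 143) (.leaf 35)) (.node 1 (.leaf 146) (.leaf 73))) (.node 2 (.node 1 (.leaf 150) (.leaf 153)) (.node 1 (.leaf 155) (.leaf 38))))) (.node 8 (.node 4 (.node 2 (.node 1 (.leaf 79) (.leaf 39)) (.node 1 (.leaf 81) (.leaf 40))) (.node 2 (.node 1 (.leaf 83) (.leaf 165)) (.node 1 (.leaf 41) (.leaf 86)))) (.node 4 (.node 2 (.node 1 (.leaf 42) (.leaf 129)) (.node 1 (.leaf 88) (.leaf 43))) (.node 2 (.node 1 (.leaf 91) (.leaf 178)) (.node 1 (.leaf 180) (.leaf 98))))))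
def nxt0_3 : T := (.node 16 (.node 8 (.node 4 (.node 2 (.node 1 (.leaf 46) (.leaf 96)) (.node 1 (.leaf 181) (.leaf 189))) (.node 2 (.node 1 (.leaf 192) (.leaf 50)) (.node 1 (.leaf 101) (.leaf 114)))) (.node 4 (.node 2 (.node 1 (.leaf 198) (.leaf 52)) (.node 1 (.leaf 105) (.leaf 121))) (.node 2 (.node 1 (.leaf 205) (.leaf 54)) (.node 1 (.leaf 109) (.leaf 55))))) (.node 8 (.node 4 (.node 2 (.node 1 (.leaf 111) (.leaf 148)) (.node 1 (.leaf 56) (.leaf 57))) (.node 2 (.node 1 (.leaf 217) (.leaf 115)) (.node 1 (.leaf 58) (.leaf 118)))) (.node 4 (.node 2 (.node 1 (.leaf 223) (.leaf 203)) (.node 1 (.leaf 61) (.leaf 122))) (.node 2 (.node 1 (.leaf 228) (.leaf 230)) (.node 1 (.leaf 63) (.leaf 126))))))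
def nxt0_4 : T := (.node 16 (.node 8 (.node 4 (.node 2 (.node 1 (.leaf 64) (.leaf 171)) (.node 1 (.leaf 128) (.leaf 65))) (.node 2 (.node 1 (.leaf 131) (.leaf 66)) (.node 1 (.leaf 133) (.leaf 210)))) (.node 4 (.node 2 (.node 1 (.leaf 140) (.leaf 69)) (.node 1 (.leaf 137) (.leaf 108))) (.node 2 (.node 1 (.leaf 244) (.leaf 104)) (.node 1 (.leaf 72) (.leaf 142))))) (.node 8 (.node 4 (.node 2 (.node 1 (.leaf 160) (.leaf 74)) (.node 1 (.leaf 145) (.leaf 156))) (.node 2 (.node 1 (.leaf 211) (.leaf 76)) (.node 1 (.leaf 149) (.leaf 77)))) (.node 4 (.node 2 (.node 1 (.leaf 262) (.leaf 151)) (.node 1 (.leaf 78) (.leaf 154))) (.node 2 (.node 1 (.leaf 256) (.leaf 94)) (.node 1 (.leaf 93) (.leaf 270))))))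
def nxt0_5 : T := (.node 16 (.node 8 (.node 4 (.node 2 (.node 1 (.leaf 251) (.leaf 167)) (.node 1 (.leaf 272) (.leaf 169))) (.node 2 (.node 1 (.leaf 85) (.leaf 164)) (.node 1 (.leaf 279) (.leaf 271)))) (.node 4 (.node 2 (.node 1 (.leaf 260) (.leaf 273)) (.node 1 (.leaf 285) (.leaf 89))) (.node 2 (.node 1 (.leaf 289) (.leaf 291)) (.node 1 (.leaf 293) (.leaf 295))))) (.node 8 (.node 4 (.node 2 (.node 1 (.leaf 267) (.leaf 173)) (.node 1 (.leaf 158) (.leaf 298))) (.node 2 (.node 1 (.leaf 157) (.leaf 95)) (.node 1 (.leaf 303) (.leaf 306)))) (.node 4 (.node 2 (.node 1 (.leaf 307) (.leaf 124)) (.node 1 (.leaf 308) (.leaf 310))) (.node 2 (.node 1 (.leaf 99) (.leaf 188)) (.node 1 (.leaf 100) (.leaf 313))))))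
def nxt0_6 : T := (.node 16 (.node 8 (.node 4 (.node 2 (.node 1 (.leaf 190) (.leaf 315)) (.node 1 (.leaf 318) (.leaf 320))) (.node 2 (.node 1 (.leaf 322) (.leaf 200)) (.node 1 (.leaf 141) (.leaf 326)))) (.node 4 (.node 2 (.node 1 (.leaf 323) (.leaf 248)) (.node 1 (.leaf 330) (.leaf 107))) (.node 2 (.node 1 (.leaf 324) (.leaf 139)) (.node 1 (.leaf 333) (.leaf 213))))) (.node 8 (.node 4 (.node 2 (.node 1 (.leaf 335) (.leaf 214)) (.node 1 (.leaf 243) (.leaf 113))) (.node 2 (.node 1 (.leaf 339) (.leaf 331)) (.node 1 (.leaf 336) (.leaf 344)))) (.node 4 (.node 2 (.node 1 (.leaf 116) (.leaf 216)) (.node 1 (.leaf 231) (.leaf 349))) (.node 2 (.node 1 (.leaf 351) (.leaf 352)) (.node 1 (.leaf 120) (.leaf 222))))))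
def nxt0_7 : T := (.node 16 (.node 8 (.node 4 (.node 2 (.node 1 (.leaf 356) (.leaf 359)) (.node 1 (.leaf 360) (.leaf 362))) (.node 2 (.node 1 (.leaf 185) (.leaf 125)) (.node 1 (.leaf 229) (.leaf 346)))) (.node 4 (.node 2 (.node 1 (.leaf 367) (.leaf 237)) (.node 1 (.leaf 350) (.leaf 206))) (.node 2 (.node 1 (.leaf 170) (.leaf 368)) (.node 1 (.leaf 375) (.leaf 226))))) (.node 8 (.node 4 (.node 2 (.node 1 (.leaf 378) (.leaf 381)) (.node 1 (.leaf 383) (.leaf 135))) (.node 2 (.node 1 (.leaf 136) (.leaf 186)) (.node 1 (.leaf 193) (.leaf 386)))) (.node 4 (.node 2 (.node 1 (.leaf 328) (.leaf 389)) (.node 1 (.leaf 220) (.leaf 144))) (.node 2 (.node 1 (.leaf 392) (.leaf 184)) (.node 1 (.leaf 390) (.leaf 397))))))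
def nxt0_8 : T := (.node 16 (.node 8 (.node 4 (.node 2 (.node 1 (.leaf 147) (.leaf 314)) (.node 1 (.leaf 212) (.leaf 162))) (.node 2 (.node 1 (.leaf 282) (.leaf 152)) (.node 1 (.leaf 261) (.leaf 265)))) (.node 4 (.node 2 (.node 1 (.leaf 405) (.leaf 403)) (.node 1 (.leaf 407) (.leaf 296))) (.node 2 (.node 1 (.leaf 408) (.leaf 159)) (.node 1 (.leaf 269) (.leaf 161))))) (.node 8 (.node 4 (.node 2 (.node 1 (.leaf 259) (.leaf 163)) (.node 1 (.leaf 412) (.leaf 413))) (.node 2 (.node 1 (.leaf 414) (.leaf 415)) (.node 1 (.leaf 166) (.leaf 278)))) (.node 4 (.node 2 (.node 1 (.leaf 417) (.leaf 418)) (.node 1 (.leaf 168) (.leaf 422))) (.node 2 (.node 1 (.leaf 424) (.leaf 236)) (.node 1 (.leaf 426) (.leaf 428))))))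
def nxt0_9 : T := (.node 16 (.node 8 (.node 4 (.node 2 (.node 1 (.leaf 172) (.leaf 288)) (.node 1 (.leaf 430) (.leaf 177))) (.node 2 (.node 1 (.leaf 174) (.leaf 292)) (.node 1 (.leaf 175) (.leaf 294)))) (.node 4 (.node 2 (.node 1 (.leaf 176) (.leaf 305)) (.node 1 (.leaf 300) (.leaf 221))) (.node 2 (.node 1 (.leaf 179) (.leaf 440)) (.node 1 (.leaf 182) (.leaf 302))))) (.node 8 (.node 4 (.node 2 (.node 1 (.leaf 183) (.leaf 438)) (.node 1 (.leaf 304) (.leaf 253))) (.node 2 (.node 1 (.leaf 245) (.leaf 187)) (.node 1 (.leaf 309) (.leaf 232)))) (.node 4 (.node 2 (.node 1 (.leaf 191) (.leaf 312)) (.node 1 (.leaf 398) (.leaf 246))) (.node 2 (.node 1 (.leaf 194) (.leaf 447)) (.node 1 (.leaf 316) (.leaf 195))))))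
def nxt0_10 : T := (.node 16 (.node 8 (.node 4 (.node 2 (.node 1 (.leaf 319) (.leaf 196)) (.node 1 (.leaf 321) (.leaf 197))) (.node 2 (.node 1 (.leaf 332) (.leaf 199)) (.node 1 (.leaf 325) (.leaf 354)))) (.node 4 (.node 2 (.node 1 (.leaf 201) (.leaf 202)) (.node 1 (.leaf 329) (.leaf 207))) (.node 2 (.node 1 (.leaf 204) (.leaf 235)) (.node 1 (.leaf 208) (.leaf 334))))) (.node 8 (.node 4 (.node 2 (.node 1 (.leaf 209) (.leaf 462)) (.node 1 (.leaf 442) (.leaf 258))) (.node 2 (.node 1 (.leaf 464) (.leaf 448)) (.node 1 (.leaf 215) (.leaf 465)))) (.node 4 (.node 2 (.node 1 (.leaf 342) (.leaf 466)) (.node 1 (.leaf 218) (.leaf 469))) (.node 2 (.node 1 (.leaf 219) (.leaf 348)) (.node 1 (.leaf 370) (.leaf 250))))))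
def nxt0_11 : T := (.node 16 (.node 8 (.node 4 (.node 2 (.node 1 (.leaf 299) (.leaf 264)) (.node 1 (.leaf 457) (.leaf 224))) (.node 2 (.node 1 (.leaf 355) (.leaf 225)) (.node 1 (.leaf 471) (.leaf 357)))) (.node 4 (.node 2 (.node 1 (.leaf 239) (.leaf 227)) (.node 1 (.leaf 361) (.leaf 274))) (.node 2 (.node 1 (.leaf 268) (.leaf 345)) (.node 1 (.leaf 277) (.leaf 311))))) (.node 8 (.node 4 (.node 2 (.node 1 (.leaf 233) (.leaf 454)) (.node 1 (.leaf 234) (.leaf 444))) (.node 2 (.node 1 (.leaf 431) (.leaf 275)) (.node 1 (.leaf 238) (.leaf 374)))) (.node 4 (.node 2 (.node 1 (.leaf 301) (.leaf 240)) (.node 1 (.leaf 377) (.leaf 241))) (.node 2 (.node 1 (.leaf 276) (.leaf 379)) (.node 1 (.leaf 242) (.leaf 382))))))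
def nxt0_12 : T := (.node 16 (.node 8 (.node 4 (.node 2 (.node 1 (.leaf 247) (.leaf 460)) (.node 1 (.leaf 384) (.leaf 409))) (.node 2 (.node 1 (.leaf 249) (.leaf 388)) (.node 1 (.leaf 394) (.leaf 252)))) (.node 4 (.node 2 (.node 1 (.leaf 391) (.leaf 290)) (.node 1 (.leaf 254) (.leaf 255))) (.node 2 (.node 1 (.leaf 358) (.leaf 395)) (.node 1 (.leaf 257) (.leaf 453))))) (.node 8 (.node 4 (.node 2 (.node 1 (.leaf 472) (.leaf 281)) (.node 1 (.leaf 439) (.leaf 263))) (.node 2 (.node 1 (.leaf 343) (.leaf 353)) (.node 1 (.leaf 266) (.leaf 406)))) (.node 4 (.node 2 (.node 1 (.leaf 364) (.leaf 478)) (.node 1 (.leaf 481) (.leaf 420))) (.node 2 (.node 1 (.leaf 363) (.leaf 373)) (.node 1 (.leaf 380) (.leaf 366))))))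
def nxt0_13 : T := (.node 16 (.node 8 (.node 4 (.node 2 (.node 1 (.leaf 280) (.leaf 416)) (.node 1 (.leaf 401) (.leaf 410))) (.node 2 (.node 1 (.leaf 482) (.leaf 283)) (.node 1 (.leaf 421) (.leaf 284)))) (.node 4 (.node 2 (.node 1 (.leaf 423) (.leaf 286)) (.node 1 (.leaf 425) (.leaf 287))) (.node 2 (.node 1 (.leaf 427) (.leaf 371)) (.node 1 (.leaf 393) (.leaf 474))))) (.node 8 (.node 4 (.node 2 (.node 1 (.leaf 435) (.leaf 489)) (.node 1 (.leaf 432) (.leaf 434))) (.node 2 (.node 1 (.leaf 479) (.leaf 338)) (.node 1 (.leaf 297) (.leaf 476)))) (.node 4 (.node 2 (.node 1 (.leaf 376) (.leaf 480)) (.node 1 (.leaf 437) (.leaf 445))) (.node 2 (.node 1 (.leaf 429) (.leaf 492)) (.node 1 (.leaf 317) (.leaf 446))))))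
def nxt0_14 : T := (.node 16 (.node 8 (.node 4 (.node 2 (.node 1 (.leaf 449) (.leaf 341)) (.node 1 (.leaf 456) (.leaf 400))) (.node 2 (.node 1 (.leaf 450) (.leaf 475)) (.node 1 (.leaf 473) (.leaf 493)))) (.node 4 (.node 2 (.node 1 (.leaf 452) (.leaf 327)) (.node 1 (.leaf 485) (.leaf 467))) (.node 2 (.node 1 (.leaf 477) (.leaf 337)) (.node 1 (.leaf 461) (.leaf 340))))) (.node 8 (.node 4 (.node 2 (.node 1 (.leaf 463) (.leaf 404)) (.node 1 (.leaf 365) (.leaf 495))) (.node 2 (.node 1 (.leaf 347) (.leaf 468)) (.node 1 (.leaf 486) (.leaf 396)))) (.node 4 (.node 2 (.node 1 (.leaf 451) (.leaf 369)) (.node 1 (.leaf 372) (.leaf 399))) (.node 2 (.node 1 (.leaf 402) (.leaf 385)) (.node 1 (.leaf 387) (.leaf 490))))))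
def nxt0_15 : T := (.node 12 (.node 6 (.node 3 (.node 1 (.leaf 491) (.node 1 (.leaf 419) (.leaf 411))) (.node 1 (.leaf 455) (.node 1 (.leaf 497) (.leaf 494)))) (.node 3 (.node 1 (.leaf 496) (.node 1 (.leaf 498) (.leaf 433))) (.node 1 (.leaf 488) (.node 1 (.leaf 436) (.leaf 441))))) (.node 6 (.node 3 (.node 1 (.leaf 443) (.node 1 (.leaf 483) (.leaf 458))) (.node 1 (.leaf 459) (.node 1 (.leaf 470) (.leaf 499)))) (.node 3 (.node 1 (.leaf 500) (.node 1 (.leaf 484) (.leaf 487))) (.node 1 (.leaf 503) (.node 1 (.leaf 501) (.leaf 502))))))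
/-- Packed data. -/
def nxt0 : T := (.node 256 (.node 128 (.node 64 (.node 32 nxt0_0 nxt0_1) (.node 32 nxt0_2 nxt0_3)) (.node 64 (.node 32 nxt0_4 nxt0_5) (.node 32 nxt0_6 nxt0_7))) (.node 128 (.node 64 (.node 32 nxt0_8 nxt0_9) (.node 32 nxt0_10 nxt0_11)) (.node 64 (.node 32 nxt0_12 nxt0_13) (.node 32 nxt0_14 nxt0_15))))
def ref0_0 : T := (.node 16 (.node 8 (.node 4 (.node 2 (.node 1 (.leaf 4) (.leaf 3)) (.node 1 (.leaf 6) (.leaf 20))) (.node 2 (.node 1 (.leaf 30) (.leaf 38)) (.node 1 (.leaf 50) (.leaf 58)))) (.node 4 (.node 2 (.node 1 (.leaf 19) (.leaf 22)) (.node 1 (.leaf 25) (.leaf 72))) (.node 2 (.node 1 (.leaf 32) (.leaf 82)) (.node 1 (.leaf 37) (.leaf 42))))) (.node 8 (.node 4 (.node 2 (.node 1 (.leaf 45) (.leaf 102)) (.node 1 (.leaf 54) (.leaf 57))) (.node 2 (.node 1 (.leaf 60) (.leaf 124)) (.node 1 (.leaf 132) (.leaf 91)))) (.node 4 (.node 2 (.node 1 (.leaf 150) (.leaf 71)) (.node 1 (.leaf 74) (.leaf 97))) (.node 2 (.node 1 (.leaf 178) (.leaf 81)) (.node 1 (.leaf 84) (.leaf 194))))))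
def ref0_1 : T := (.node 16 (.node 8 (.node 4 (.node 2 (.node 1 (.leaf 139) (.leaf 204)) (.node 1 (.leaf 171) (.leaf 216))) (.node 2 (.node 1 (.leaf 101) (.leaf 104)) (.node 1 (.leaf 230) (.leaf 236)))) (.node 4 (.node 2 (.node 1 (.leaf 244) (.leaf 254)) (.node 1 (.leaf 264) (.leaf 272))) (.node 2 (.node 1 (.leaf 123) (.leaf 126)) (.node 1 (.leaf 284) (.leaf 131))))) (.node 8 (.node 4 (.node 2 (.node 1 (.leaf 134) (.leaf 137)) (.node 1 (.leaf 300) (.leaf 145))) (.node 2 (.node 1 (.leaf 312) (.leaf 152)) (.node 1 (.leaf 324) (.leaf 334)))) (.node 4 (.node 2 (.node 1 (.leaf 307) (.leaf 350)) (.node 1 (.leaf 358) (.leaf 167))) (.node 2 (.node 1 (.leaf 173) (.leaf 372)) (.node 1 (.leaf 180) (.leaf 382))))))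
def ref0_2 : T := (.node 16 (.node 8 (.node 4 (.node 2 (.node 1 (.leaf 396) (.leaf 402)) (.node 1 (.leaf 408) (.leaf 193))) (.node 2 (.node 1 (.leaf 196) (.leaf 422)) (.node 1 (.leaf 203) (.leaf 206)))) (.node 4 (.node 2 (.node 1 (.leaf 442) (.leaf 211)) (.node 1 (.leaf 450) (.leaf 218))) (.node 2 (.node 1 (.leaf 466) (.leaf 478)) (.node 1 (.leaf 484) (.leaf 229))))) (.node 8 (.node 4 (.node 2 (.node 1 (.leaf 232) (.leaf 235)) (.node 1 (.leaf 238) (.leaf 241))) (.node 2 (.node 1 (.leaf 248) (.leaf 514)) (.node 1 (.leaf 253) (.leaf 256)))) (.node 4 (.node 2 (.node 1 (.leaf 259) (.leaf 395)) (.node 1 (.leaf 268) (.leaf 271))) (.node 2 (.node 1 (.leaf 274) (.leaf 552)) (.node 1 (.leaf 562) (.leaf 293))))))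
def ref0_3 : T := (.node 16 (.node 8 (.node 4 (.node 2 (.node 1 (.leaf 283) (.leaf 286)) (.node 1 (.leaf 569) (.leaf 598))) (.node 2 (.node 1 (.leaf 608) (.leaf 299)) (.node 1 (.leaf 302) (.leaf 343)))) (.node 4 (.node 2 (.node 1 (.leaf 628) (.leaf 311)) (.node 1 (.leaf 314) (.leaf 367))) (.node 2 (.node 1 (.leaf 654) (.leaf 321)) (.node 1 (.leaf 328) (.leaf 331))))) (.node 8 (.node 4 (.node 2 (.node 1 (.leaf 336) (.leaf 461)) (.node 1 (.leaf 341) (.leaf 345))) (.node 2 (.node 1 (.leaf 688) (.leaf 354)) (.node 1 (.leaf 357) (.leaf 360)))) (.node 4 (.node 2 (.node 1 (.leaf 706) (.leaf 647)) (.node 1 (.leaf 371) (.leaf 374))) (.node 2 (.node 1 (.leaf 730) (.leaf 738)) (.node 1 (.leaf 381) (.leaf 384))))))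
def ref0_4 : T := (.node 16 (.node 8 (.node 4 (.node 2 (.node 1 (.leaf 387) (.leaf 535)) (.node 1 (.leaf 398) (.leaf 401))) (.node 2 (.node 1 (.leaf 404) (.leaf 407)) (.node 1 (.leaf 410) (.leaf 1255)))) (.node 4 (.node 2 (.node 1 (.leaf 431) (.leaf 419)) (.node 1 (.leaf 424) (.leaf 1241))) (.node 2 (.node 1 (.leaf 795) (.leaf 436)) (.node 1 (.leaf 439) (.leaf 444))))) (.node 8 (.node 4 (.node 2 (.node 1 (.leaf 1213) (.leaf 449)) (.node 1 (.leaf 452) (.leaf 493))) (.node 2 (.node 1 (.leaf 673) (.leaf 463)) (.node 1 (.leaf 468) (.leaf 471)))) (.node 4 (.node 2 (.node 1 (.leaf 876) (.leaf 480)) (.node 1 (.leaf 483) (.leaf 488))) (.node 2 (.node 1 (.leaf 857) (.leaf 1218)) (.node 1 (.leaf 1002) (.leaf 910))))))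
def ref0_5 : T := (.node 16 (.node 8 (.node 4 (.node 2 (.node 1 (.leaf 1210) (.leaf 523)) (.node 1 (.leaf 926) (.leaf 529))) (.node 2 (.node 1 (.leaf 513) (.leaf 516)) (.node 1 (.leaf 952) (.leaf 925)))) (.node 4 (.node 2 (.node 1 (.leaf 871) (.leaf 937)) (.node 1 (.leaf 974) (.leaf 533))) (.node 2 (.node 1 (.leaf 988) (.leaf 1010)) (.node 1 (.leaf 1018) (.leaf 1024))))) (.node 8 (.node 4 (.node 2 (.node 1 (.leaf 1008) (.leaf 996)) (.node 1 (.leaf 1006) (.leaf 1261))) (.node 2 (.node 1 (.leaf 1226) (.leaf 567)) (.node 1 (.leaf 1058) (.leaf 1072)))) (.node 4 (.node 2 (.node 1 (.leaf 1078) (.leaf 1172)) (.node 1 (.leaf 1090) (.leaf 1096))) (.node 2 (.node 1 (.leaf 597) (.leaf 600)) (.node 1 (.leaf 603) (.leaf 1110))))))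
def ref0_6 : T := (.node 16 (.node 8 (.node 4 (.node 2 (.node 1 (.leaf 612) (.leaf 1120)) (.node 1 (.leaf 1134) (.leaf 1140))) (.node 2 (.node 1 (.leaf 1270) (.leaf 639)) (.node 1 (.leaf 630) (.leaf 1286)))) (.node 4 (.node 2 (.node 1 (.leaf 1277) (.leaf 819)) (.node 1 (.leaf 1302) (.leaf 645))) (.node 2 (.node 1 (.leaf 1281) (.leaf 1236)) (.node 1 (.leaf 1318) (.leaf 679))))) (.node 8 (.node 4 (.node 2 (.node 1 (.leaf 1326) (.leaf 683)) (.node 1 (.leaf 1252) (.leaf 671))) (.node 2 (.node 1 (.leaf 1346) (.leaf 1313)) (.node 1 (.leaf 1337) (.leaf 1368)))) (.node 4 (.node 2 (.node 1 (.leaf 687) (.leaf 690)) (.node 1 (.leaf 1477) (.leaf 1388))) (.node 2 (.node 1 (.leaf 1400) (.leaf 1408)) (.node 1 (.leaf 705) (.leaf 710))))))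
def ref0_7 : T := (.node 16 (.node 8 (.node 4 (.node 2 (.node 1 (.leaf 1424) (.leaf 1438)) (.node 1 (.leaf 1446) (.leaf 1454))) (.node 2 (.node 1 (.leaf 1176) (.leaf 735)) (.node 1 (.leaf 740) (.leaf 1474)))) (.node 4 (.node 2 (.node 1 (.leaf 1486) (.leaf 761)) (.node 1 (.leaf 1399) (.leaf 752))) (.node 2 (.node 1 (.leaf 756) (.leaf 1497)) (.node 1 (.leaf 1522) (.leaf 1249))))) (.node 8 (.node 4 (.node 2 (.node 1 (.leaf 1538) (.leaf 1554)) (.node 1 (.leaf 1564) (.leaf 779))) (.node 2 (.node 1 (.leaf 793) (.leaf 800)) (.node 1 (.leaf 806) (.leaf 1576)))) (.node 4 (.node 2 (.node 1 (.leaf 1299) (.leaf 1590)) (.node 1 (.leaf 826) (.leaf 829))) (.node 2 (.node 1 (.leaf 1608) (.leaf 1244)) (.node 1 (.leaf 1603) (.leaf 1636))))))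
def ref0_8 : T := (.node 16 (.node 8 (.node 4 (.node 2 (.node 1 (.leaf 853) (.leaf 1119)) (.node 1 (.leaf 862) (.leaf 866))) (.node 2 (.node 1 (.leaf 967) (.leaf 873)) (.node 1 (.leaf 878) (.leaf 887)))) (.node 4 (.node 2 (.node 1 (.leaf 1676) (.leaf 1667)) (.node 1 (.leaf 1688) (.leaf 1033))) (.node 2 (.node 1 (.leaf 1696) (.leaf 909)) (.node 1 (.leaf 912) (.leaf 923))))) (.node 8 (.node 4 (.node 2 (.node 1 (.leaf 930) (.leaf 933)) (.node 1 (.leaf 1712) (.leaf 1716))) (.node 2 (.node 1 (.leaf 1720) (.leaf 1724)) (.node 1 (.leaf 951) (.leaf 954)))) (.node 4 (.node 2 (.node 1 (.leaf 1732) (.leaf 1738)) (.node 1 (.leaf 965) (.leaf 1758))) (.node 2 (.node 1 (.leaf 1768) (.leaf 976)) (.node 1 (.leaf 1780) (.leaf 1792))))))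
def ref0_9 : T := (.node 16 (.node 8 (.node 4 (.node 2 (.node 1 (.leaf 985) (.leaf 990)) (.node 1 (.leaf 1800) (.leaf 1012))) (.node 2 (.node 1 (.leaf 1015) (.leaf 1020)) (.node 1 (.leaf 1023) (.leaf 1028)))) (.node 4 (.node 2 (.node 1 (.leaf 1031) (.leaf 1071)) (.node 1 (.leaf 1258) (.leaf 1225))) (.node 2 (.node 1 (.leaf 1043) (.leaf 1850)) (.node 1 (.leaf 1057) (.leaf 1060))))) (.node 8 (.node 4 (.node 2 (.node 1 (.leaf 1063) (.leaf 1843)) (.node 1 (.leaf 1074) (.leaf 1247))) (.node 2 (.node 1 (.leaf 1092) (.leaf 1095)) (.node 1 (.leaf 1098) (.leaf 1485)))) (.node 4 (.node 2 (.node 1 (.leaf 1109) (.leaf 1112)) (.node 1 (.leaf 1647) (.leaf 1124))) (.node 2 (.node 1 (.leaf 1127) (.leaf 1886)) (.node 1 (.leaf 1136) (.leaf 1139))))))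
def ref0_10 : T := (.node 16 (.node 8 (.node 4 (.node 2 (.node 1 (.leaf 1144) (.leaf 1147)) (.node 1 (.leaf 1272) (.leaf 1275))) (.node 2 (.node 1 (.leaf 1317) (.leaf 1283)) (.node 1 (.leaf 1290) (.leaf 1419)))) (.node 4 (.node 2 (.node 1 (.leaf 1297) (.leaf 1301)) (.node 1 (.leaf 1306) (.leaf 1310))) (.node 2 (.node 1 (.leaf 1315) (.leaf 1322)) (.node 1 (.leaf 1325) (.leaf 1328))))) (.node 8 (.node 4 (.node 2 (.node 1 (.leaf 1331) (.leaf 1962)) (.node 1 (.leaf 1865) (.leaf 1352))) (.node 2 (.node 1 (.leaf 1972) (.leaf 1897)) (.node 1 (.leaf 1361) (.leaf 1980)))) (.node 4 (.node 2 (.node 1 (.leaf 1370) (.leaf 1988)) (.node 1 (.leaf 1379) (.leaf 2002))) (.node 2 (.node 1 (.leaf 1387) (.leaf 1392)) (.node 1 (.leaf 1505) (.leaf 1406))))))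
def ref0_11 : T := (.node 16 (.node 8 (.node 4 (.node 2 (.node 1 (.leaf 1410) (.leaf 1414)) (.node 1 (.leaf 1945) (.leaf 1421))) (.node 2 (.node 1 (.leaf 1428) (.leaf 1431)) (.node 1 (.leaf 2014) (.leaf 1442)))) (.node 4 (.node 2 (.node 1 (.leaf 1450) (.leaf 1453)) (.node 1 (.leaf 1456) (.leaf 1460))) (.node 2 (.node 1 (.leaf 1479) (.leaf 1471)) (.node 1 (.leaf 1482) (.leaf 1492))))) (.node 8 (.node 4 (.node 2 (.node 1 (.leaf 1495) (.leaf 1929)) (.node 1 (.leaf 1503) (.leaf 1875))) (.node 2 (.node 1 (.leaf 1807) (.leaf 1516)) (.node 1 (.leaf 1519) (.leaf 1528)))) (.node 4 (.node 2 (.node 1 (.leaf 1532) (.leaf 1535)) (.node 1 (.leaf 1544) (.leaf 1547))) (.node 2 (.node 1 (.leaf 1552) (.leaf 1558)) (.node 1 (.leaf 1561) (.leaf 1568))))))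
def ref0_12 : T := (.node 16 (.node 8 (.node 4 (.node 2 (.node 1 (.leaf 1571) (.leaf 1957)) (.node 1 (.leaf 1580) (.leaf 1703))) (.node 2 (.node 1 (.leaf 1589) (.leaf 1596)) (.node 1 (.leaf 1623) (.leaf 1605)))) (.node 4 (.node 2 (.node 1 (.leaf 1612) (.leaf 1616)) (.node 1 (.leaf 1619) (.leaf 1625))) (.node 2 (.node 1 (.leaf 1632) (.leaf 1640)) (.node 1 (.leaf 1645) (.leaf 1923))))) (.node 8 (.node 4 (.node 2 (.node 1 (.leaf 2027) (.leaf 1656)) (.node 1 (.leaf 1847) (.leaf 1663))) (.node 2 (.node 1 (.leaf 1672) (.leaf 1680)) (.node 1 (.leaf 1685) (.leaf 1692)))) (.node 4 (.node 2 (.node 1 (.leaf 1698) (.leaf 2067)) (.node 1 (.leaf 2080) (.leaf 1751))) (.node 2 (.node 1 (.leaf 1714) (.leaf 1718)) (.node 1 (.leaf 1722) (.leaf 1726))))))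
def ref0_13 : T := (.node 16 (.node 8 (.node 4 (.node 2 (.node 1 (.leaf 1729) (.leaf 1736)) (.node 1 (.leaf 1740) (.leaf 1744))) (.node 2 (.node 1 (.leaf 2087) (.leaf 1755)) (.node 1 (.leaf 1762) (.leaf 1765)))) (.node 4 (.node 2 (.node 1 (.leaf 1770) (.leaf 1775)) (.node 1 (.leaf 1786) (.leaf 1789))) (.node 2 (.node 1 (.leaf 1794) (.leaf 1798)) (.node 1 (.leaf 1802) (.leaf 2039))))) (.node 8 (.node 4 (.node 2 (.node 1 (.leaf 1825) (.leaf 2120)) (.node 1 (.leaf 1816) (.leaf 1822))) (.node 2 (.node 1 (.leaf 2071) (.leaf 1837)) (.node 1 (.leaf 1839) (.leaf 2051)))) (.node 4 (.node 2 (.node 1 (.leaf 1854) (.leaf 2077)) (.node 1 (.leaf 1862) (.leaf 1879))) (.node 2 (.node 1 (.leaf 1872) (.leaf 2143)) (.node 1 (.leaf 1883) (.leaf 1892))))))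
def ref0_14 : T := (.node 16 (.node 8 (.node 4 (.node 2 (.node 1 (.leaf 1903) (.leaf 1900)) (.node 1 (.leaf 1939) (.leaf 1910))) (.node 2 (.node 1 (.leaf 1916) (.leaf 2043)) (.node 1 (.leaf 2033) (.leaf 2144)))) (.node 4 (.node 2 (.node 1 (.leaf 1936) (.leaf 1943)) (.node 1 (.leaf 2101) (.leaf 1995))) (.node 2 (.node 1 (.leaf 2059) (.leaf 1959)) (.node 1 (.leaf 1966) (.leaf 1969))))) (.node 8 (.node 4 (.node 2 (.node 1 (.leaf 1978) (.leaf 1986)) (.node 1 (.leaf 1990) (.leaf 2163))) (.node 2 (.node 1 (.leaf 1999) (.leaf 2008)) (.node 1 (.leaf 2107) (.leaf 2020)))) (.node 4 (.node 2 (.node 1 (.leaf 2024) (.leaf 2029)) (.node 1 (.leaf 2035) (.leaf 2044))) (.node 2 (.node 1 (.leaf 2048) (.leaf 2053)) (.node 1 (.leaf 2061) (.leaf 2127))))))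
def ref0_15 : T := (.node 12 (.node 6 (.node 3 (.node 1 (.leaf 2135) (.node 1 (.leaf 2082) (.leaf 2085))) (.node 1 (.leaf 2090) (.node 1 (.leaf 2175) (.leaf 2155)))) (.node 3 (.node 1 (.leaf 2169) (.node 1 (.leaf 2181) (.leaf 2115))) (.node 1 (.leaf 2122) (.node 1 (.leaf 2125) (.leaf 2129))))) (.node 6 (.node 3 (.node 1 (.leaf 2137) (.node 1 (.leaf 2148) (.leaf 2151))) (.node 1 (.leaf 2157) (.node 1 (.leaf 2166) (.leaf 2187)))) (.node 3 (.node 1 (.leaf 2193) (.node 1 (.leaf 2185) (.leaf 2191))) (.node 1 (.leaf 2206) (.node 1 (.leaf 2202) (.leaf 2208))))))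
/-- Packed data. -/
def ref0 : T := (.node 256 (.node 128 (.node 64 (.node 32 ref0_0 ref0_1) (.node 32 ref0_2 ref0_3)) (.node 64 (.node 32 ref0_4 ref0_5) (.node 32 ref0_6 ref0_7))) (.node 128 (.node 64 (.node 32 ref0_8 ref0_9) (.node 32 ref0_10 ref0_11)) (.node 64 (.node 32 ref0_12 ref0_13) (.node 32 ref0_14 ref0_15))))
def nxt1_0 : T := (.node 16 (.node 8 (.node 4 (.node 2 (.node 1 (.leaf 0) (.leaf 3)) (.node 1 (.leaf 5) (.leaf 7))) (.node 2 (.node 1 (.leaf 1) (.leaf 13)) (.node 1 (.leaf 2) (.leaf 11)))) (.node 4 (.node 2 (.node 1 (.leaf 21) (.leaf 22)) (.node 1 (.leaf 15) (.leaf 4))) (.node 2 (.node 1 (.leaf 27) (.leaf 17)) (.node 1 (.leaf 31) (.leaf 33))))) (.node 8 (.node 4 (.node 2 (.node 1 (.leaf 34) (.leaf 6)) (.node 1 (.leaf 8) (.leaf 39))) (.node 2 (.node 1 (.leaf 41) (.leaf 43)) (.node 1 (.leaf 46) (.leaf 9)))) (.node 4 (.node 2 (.node 1 (.leaf 10) (.leaf 54)) (.node 1 (.leaf 56) (.leaf 58))) (.node 2 (.node 1 (.leaf 12) (.leaf 63)) (.node 1 (.leaf 65) (.leaf 66))))))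
def nxt1_1 : T := (.node 16 (.node 8 (.node 4 (.node 2 (.node 1 (.leaf 14) (.leaf 52)) (.node 1 (.leaf 72) (.leaf 16))) (.node 2 (.node 1 (.leaf 76) (.leaf 40)) (.node 1 (.leaf 18) (.leaf 78)))) (.node 4 (.node 2 (.node 1 (.leaf 19) (.leaf 85)) (.node 1 (.leaf 20) (.leaf 38))) (.node 2 (.node 1 (.leaf 93) (.leaf 94)) (.node 1 (.leaf 50) (.leaf 60))))) (.node 8 (.node 4 (.node 2 (.node 1 (.leaf 99) (.leaf 59)) (.node 1 (.leaf 23) (.leaf 103))) (.node 2 (.node 1 (.leaf 24) (.leaf 107)) (.node 1 (.leaf 30) (.leaf 25)))) (.node 4 (.node 2 (.node 1 (.leaf 113) (.leaf 26)) (.node 1 (.leaf 61) (.leaf 120))) (.node 2 (.node 1 (.leaf 121) (.leaf 28)) (.node 1 (.leaf 109) (.leaf 125))))))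
def nxt1_2 : T := (.node 16 (.node 8 (.node 4 (.node 2 (.node 1 (.leaf 29) (.leaf 55)) (.node 1 (.leaf 69) (.leaf 135))) (.node 2 (.node 1 (.leaf 75) (.leaf 32)) (.node 1 (.leaf 139) (.leaf 141)))) (.node 4 (.node 2 (.node 1 (.leaf 74) (.leaf 84)) (.node 1 (.leaf 35) (.leaf 147))) (.node 2 (.node 1 (.leaf 148) (.leaf 36)) (.node 1 (.leaf 37) (.leaf 156))))) (.node 8 (.node 4 (.node 2 (.node 1 (.leaf 149) (.leaf 159)) (.node 1 (.leaf 160) (.leaf 48))) (.node 2 (.node 1 (.leaf 163) (.leaf 89)) (.node 1 (.leaf 166) (.leaf 168)))) (.node 4 (.node 2 (.node 1 (.leaf 169) (.leaf 42)) (.node 1 (.leaf 44) (.leaf 173))) (.node 2 (.node 1 (.leaf 175) (.leaf 177)) (.node 1 (.leaf 179) (.leaf 45))))))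
def nxt1_3 : T := (.node 16 (.node 8 (.node 4 (.node 2 (.node 1 (.leaf 182) (.leaf 184)) (.node 1 (.leaf 47) (.leaf 187))) (.node 2 (.node 1 (.leaf 49) (.leaf 193)) (.node 1 (.leaf 140) (.leaf 196)))) (.node 4 (.node 2 (.node 1 (.leaf 51) (.leaf 199)) (.node 1 (.leaf 201) (.leaf 142))) (.node 2 (.node 1 (.leaf 53) (.leaf 206)) (.node 1 (.leaf 67) (.leaf 87))))) (.node 8 (.node 4 (.node 2 (.node 1 (.leaf 209) (.leaf 116)) (.node 1 (.leaf 212) (.leaf 214))) (.node 2 (.node 1 (.leaf 57) (.leaf 81)) (.node 1 (.leaf 219) (.leaf 221)))) (.node 4 (.node 2 (.node 1 (.leaf 191) (.leaf 186)) (.node 1 (.leaf 224) (.leaf 188))) (.node 2 (.node 1 (.leaf 62) (.leaf 129)) (.node 1 (.leaf 231) (.leaf 232))))))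
def nxt1_4 : T := (.node 16 (.node 8 (.node 4 (.node 2 (.node 1 (.leaf 71) (.leaf 64)) (.node 1 (.leaf 235) (.leaf 185))) (.node 2 (.node 1 (.leaf 238) (.leaf 239)) (.node 1 (.leaf 240) (.leaf 242)))) (.node 4 (.node 2 (.node 1 (.leaf 68) (.leaf 95)) (.node 1 (.leaf 246) (.leaf 195))) (.node 2 (.node 1 (.leaf 70) (.leaf 248)) (.node 1 (.leaf 204) (.leaf 249))))) (.node 8 (.node 4 (.node 2 (.node 1 (.leaf 73) (.leaf 210)) (.node 1 (.leaf 254) (.leaf 245))) (.node 2 (.node 1 (.leaf 152) (.leaf 257)) (.node 1 (.leaf 258) (.leaf 132)))) (.node 4 (.node 2 (.node 1 (.leaf 77) (.leaf 263)) (.node 1 (.leaf 265) (.leaf 126))) (.node 2 (.node 1 (.leaf 119) (.leaf 79)) (.node 1 (.leaf 80) (.leaf 268))))))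
def nxt1_5 : T := (.node 16 (.node 8 (.node 4 (.node 2 (.node 1 (.leaf 133) (.leaf 82)) (.node 1 (.leaf 83) (.leaf 252))) (.node 2 (.node 1 (.leaf 274) (.leaf 276)) (.node 1 (.leaf 277) (.leaf 86)))) (.node 4 (.node 2 (.node 1 (.leaf 281) (.leaf 283)) (.node 1 (.leaf 88) (.leaf 286))) (.node 2 (.node 1 (.leaf 90) (.leaf 290)) (.node 1 (.leaf 91) (.leaf 229))))) (.node 8 (.node 4 (.node 2 (.node 1 (.leaf 92) (.leaf 172)) (.node 1 (.leaf 298) (.leaf 137))) (.node 2 (.node 1 (.leaf 295) (.leaf 273)) (.node 1 (.leaf 301) (.leaf 96)))) (.node 4 (.node 2 (.node 1 (.leaf 237) (.leaf 97)) (.node 1 (.leaf 98) (.leaf 162))) (.node 2 (.node 1 (.leaf 154) (.leaf 251)) (.node 1 (.leaf 244) (.leaf 100))))))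
def nxt1_6 : T := (.node 16 (.node 8 (.node 4 (.node 2 (.node 1 (.leaf 181) (.leaf 314)) (.node 1 (.leaf 101) (.leaf 102))) (.node 2 (.node 1 (.leaf 197) (.leaf 104)) (.node 1 (.leaf 319) (.leaf 165)))) (.node 4 (.node 2 (.node 1 (.leaf 105) (.leaf 327)) (.node 1 (.leaf 106) (.leaf 223))) (.node 2 (.node 1 (.leaf 108) (.leaf 325)) (.node 1 (.leaf 227) (.leaf 110))))) (.node 8 (.node 4 (.node 2 (.node 1 (.leaf 111) (.leaf 253)) (.node 1 (.leaf 112) (.leaf 337))) (.node 2 (.node 1 (.leaf 338) (.leaf 114)) (.node 1 (.leaf 341) (.leaf 115)))) (.node 4 (.node 2 (.node 1 (.leaf 345) (.leaf 174)) (.node 1 (.leaf 117) (.leaf 347))) (.node 2 (.node 1 (.leaf 118) (.leaf 157)) (.node 1 (.leaf 353) (.leaf 344))))))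
def nxt1_7 : T := (.node 16 (.node 8 (.node 4 (.node 2 (.node 1 (.leaf 354) (.leaf 122)) (.node 1 (.leaf 123) (.leaf 124))) (.node 2 (.node 1 (.leaf 355) (.leaf 297)) (.node 1 (.leaf 363) (.leaf 365)))) (.node 4 (.node 2 (.node 1 (.leaf 366) (.leaf 127)) (.node 1 (.leaf 128) (.leaf 371))) (.node 2 (.node 1 (.leaf 130) (.leaf 131)) (.node 1 (.leaf 373) (.leaf 161))))) (.node 8 (.node 4 (.node 2 (.node 1 (.leaf 376) (.leaf 134)) (.node 1 (.leaf 207) (.leaf 228))) (.node 2 (.node 1 (.leaf 333) (.leaf 136)) (.node 1 (.leaf 321) (.leaf 138)))) (.node 4 (.node 2 (.node 1 (.leaf 234) (.leaf 387)) (.node 1 (.leaf 143) (.leaf 390))) (.node 2 (.node 1 (.leaf 144) (.leaf 145)) (.node 1 (.leaf 393) (.leaf 146))))))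
def nxt1_8 : T := (.node 16 (.node 8 (.node 4 (.node 2 (.node 1 (.leaf 222) (.leaf 267)) (.node 1 (.leaf 399) (.leaf 150))) (.node 2 (.node 1 (.leaf 151) (.leaf 202)) (.node 1 (.leaf 401) (.leaf 402)))) (.node 4 (.node 2 (.node 1 (.leaf 153) (.leaf 226)) (.node 1 (.leaf 155) (.leaf 158))) (.node 2 (.node 1 (.leaf 218) (.leaf 386)) (.node 1 (.leaf 409) (.leaf 336))))) (.node 8 (.node 4 (.node 2 (.node 1 (.leaf 256) (.leaf 411)) (.node 1 (.leaf 216) (.leaf 164))) (.node 2 (.node 1 (.leaf 200) (.leaf 280)) (.node 1 (.leaf 397) (.leaf 192)))) (.node 4 (.node 2 (.node 1 (.leaf 167) (.leaf 208)) (.node 1 (.leaf 419) (.leaf 284))) (.node 2 (.node 1 (.leaf 170) (.leaf 351)) (.node 1 (.leaf 211) (.leaf 171))))))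
def nxt1_9 : T := (.node 16 (.node 8 (.node 4 (.node 2 (.node 1 (.leaf 250) (.leaf 425)) (.node 1 (.leaf 217) (.leaf 431))) (.node 2 (.node 1 (.leaf 180) (.leaf 434)) (.node 1 (.leaf 367) (.leaf 436)))) (.node 4 (.node 2 (.node 1 (.leaf 432) (.leaf 176)) (.node 1 (.leaf 439) (.leaf 178))) (.node 2 (.node 1 (.leaf 378) (.leaf 305)) (.node 1 (.leaf 405) (.leaf 313))))) (.node 8 (.node 4 (.node 2 (.node 1 (.leaf 189) (.leaf 183)) (.node 1 (.leaf 356) (.leaf 389))) (.node 2 (.node 1 (.leaf 315) (.leaf 443)) (.node 1 (.leaf 444) (.leaf 190)))) (.node 4 (.node 2 (.node 1 (.leaf 395) (.leaf 359)) (.node 1 (.leaf 317) (.leaf 339))) (.node 2 (.node 1 (.leaf 307) (.leaf 194)) (.node 1 (.leaf 448) (.leaf 449))))))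
def nxt1_10 : T := (.node 16 (.node 8 (.node 4 (.node 2 (.node 1 (.leaf 302) (.leaf 385)) (.node 1 (.leaf 451) (.leaf 452))) (.node 2 (.node 1 (.leaf 198) (.leaf 455)) (.node 1 (.leaf 278) (.leaf 261)))) (.node 4 (.node 2 (.node 1 (.leaf 423) (.leaf 450)) (.node 1 (.leaf 205) (.leaf 203))) (.node 2 (.node 1 (.leaf 456) (.leaf 445)) (.node 1 (.leaf 375) (.leaf 382))))) (.node 8 (.node 4 (.node 2 (.node 1 (.leaf 303) (.leaf 287)) (.node 1 (.leaf 340) (.leaf 285))) (.node 2 (.node 1 (.leaf 213) (.leaf 343)) (.node 1 (.leaf 293) (.leaf 215)))) (.node 4 (.node 2 (.node 1 (.leaf 459) (.leaf 275)) (.node 1 (.leaf 467) (.leaf 350))) (.node 2 (.node 1 (.leaf 407) (.leaf 318)) (.node 1 (.leaf 220) (.leaf 308))))))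
def nxt1_11 : T := (.node 16 (.node 8 (.node 4 (.node 2 (.node 1 (.leaf 435) (.leaf 410)) (.node 1 (.leaf 358) (.leaf 470))) (.node 2 (.node 1 (.leaf 424) (.leaf 352)) (.node 1 (.leaf 225) (.leaf 271)))) (.node 4 (.node 2 (.node 1 (.leaf 348) (.leaf 383)) (.node 1 (.leaf 374) (.leaf 262))) (.node 2 (.node 1 (.leaf 230) (.leaf 266)) (.node 1 (.leaf 369) (.leaf 357))))) (.node 8 (.node 4 (.node 2 (.node 1 (.leaf 403) (.leaf 233)) (.node 1 (.leaf 426) (.leaf 372))) (.node 2 (.node 1 (.leaf 236) (.leaf 260)) (.node 1 (.leaf 468) (.leaf 316)))) (.node 4 (.node 2 (.node 1 (.leaf 380) (.leaf 312)) (.node 1 (.leaf 342) (.leaf 394))) (.node 2 (.node 1 (.leaf 241) (.leaf 243)) (.node 1 (.leaf 421) (.leaf 420))))))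
def nxt1_12 : T := (.node 16 (.node 8 (.node 4 (.node 2 (.node 1 (.leaf 476) (.leaf 247)) (.node 1 (.leaf 360) (.leaf 288))) (.node 2 (.node 1 (.leaf 384) (.leaf 334)) (.node 1 (.leaf 441) (.leaf 270)))) (.node 4 (.node 2 (.node 1 (.leaf 309) (.leaf 396)) (.node 1 (.leaf 474) (.leaf 368))) (.node 2 (.node 1 (.leaf 255) (.leaf 332)) (.node 1 (.leaf 464) (.leaf 400))))) (.node 8 (.node 4 (.node 2 (.node 1 (.leaf 259) (.leaf 364)) (.node 1 (.leaf 404) (.leaf 377))) (.node 2 (.node 1 (.leaf 264) (.leaf 329)) (.node 1 (.leaf 310) (.leaf 269)))) (.node 4 (.node 2 (.node 1 (.leaf 479) (.leaf 480)) (.node 1 (.leaf 272) (.leaf 279))) (.node 2 (.node 1 (.leaf 471) (.leaf 483)) (.node 1 (.leaf 477) (.leaf 465))))))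
def nxt1_13 : T := (.node 16 (.node 8 (.node 4 (.node 2 (.node 1 (.leaf 299) (.leaf 349)) (.node 1 (.leaf 478) (.leaf 361))) (.node 2 (.node 1 (.leaf 282) (.leaf 486)) (.node 1 (.leaf 370) (.leaf 453)))) (.node 4 (.node 2 (.node 1 (.leaf 487) (.leaf 322)) (.node 1 (.leaf 398) (.leaf 414))) (.node 2 (.node 1 (.leaf 438) (.leaf 289)) (.node 1 (.leaf 461) (.leaf 437))))) (.node 8 (.node 4 (.node 2 (.node 1 (.leaf 291) (.leaf 292)) (.node 1 (.leaf 300) (.leaf 294))) (.node 2 (.node 1 (.leaf 433) (.leaf 296)) (.node 1 (.leaf 447) (.leaf 416)))) (.node 4 (.node 2 (.node 1 (.leaf 412) (.leaf 304)) (.node 1 (.leaf 306) (.leaf 346))) (.node 2 (.node 1 (.leaf 491) (.leaf 311)) (.node 1 (.leaf 406) (.leaf 413))))))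
def nxt1_14 : T := (.node 16 (.node 8 (.node 4 (.node 2 (.node 1 (.leaf 484) (.leaf 454)) (.node 1 (.leaf 320) (.leaf 429))) (.node 2 (.node 1 (.leaf 328) (.leaf 323)) (.node 1 (.leaf 324) (.leaf 458)))) (.node 4 (.node 2 (.node 1 (.leaf 326) (.leaf 462)) (.node 1 (.leaf 330) (.leaf 331))) (.node 2 (.node 1 (.leaf 335) (.leaf 485)) (.node 1 (.leaf 488) (.leaf 391))))) (.node 8 (.node 4 (.node 2 (.node 1 (.leaf 422) (.leaf 440)) (.node 1 (.leaf 469) (.leaf 392))) (.node 2 (.node 1 (.leaf 496) (.leaf 457)) (.node 1 (.leaf 381) (.leaf 415)))) (.node 4 (.node 2 (.node 1 (.leaf 362) (.leaf 388)) (.node 1 (.leaf 498) (.leaf 379))) (.node 2 (.node 1 (.leaf 497) (.leaf 408)) (.node 1 (.leaf 430) (.leaf 427))))))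
def nxt1_15 : T := (.node 12 (.node 6 (.node 3 (.node 1 (.leaf 463) (.node 1 (.leaf 492) (.leaf 493))) (.node 1 (.leaf 428) (.node 1 (.leaf 417) (.leaf 418)))) (.node 3 (.node 1 (.leaf 460) (.node 1 (.leaf 442) (.leaf 466))) (.node 1 (.leaf 495) (.node 1 (.leaf 502) (.leaf 446))))) (.node 6 (.node 3 (.node 1 (.leaf 490) (.node 1 (.leaf 501) (.leaf 481))) (.node 1 (.leaf 482) (.node 1 (.leaf 472) (.leaf 473)))) (.node 3 (.node 1 (.leaf 475) (.node 1 (.leaf 499) (.leaf 500))) (.node 1 (.leaf 489) (.node 1 (.leaf 494) (.leaf 503))))))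
/-- Packed data. -/
def nxt1 : T := (.node 256 (.node 128 (.node 64 (.node 32 nxt1_0 nxt1_1) (.node 32 nxt1_2 nxt1_3)) (.node 64 (.node 32 nxt1_4 nxt1_5) (.node 32 nxt1_6 nxt1_7))) (.node 128 (.node 64 (.node 32 nxt1_8 nxt1_9) (.node 32 nxt1_10 nxt1_11)) (.node 64 (.node 32 nxt1_12 nxt1_13) (.node 32 nxt1_14 nxt1_15))))
def ref1_0 : T := (.node 16 (.node 8 (.node 4 (.node 2 (.node 1 (.leaf 0) (.leaf 8)) (.node 1 (.leaf 12) (.leaf 16))) (.node 2 (.node 1 (.leaf 11) (.leaf 34)) (.node 1 (.leaf 15) (.leaf 29)))) (.node 4 (.node 2 (.node 1 (.leaf 62) (.leaf 64)) (.node 1 (.leaf 41) (.leaf 27))) (.node 2 (.node 1 (.leaf 76) (.leaf 49)) (.node 1 (.leaf 86) (.leaf 92))))) (.node 8 (.node 4 (.node 2 (.node 1 (.leaf 94) (.leaf 47)) (.node 1 (.leaf 52) (.leaf 108))) (.node 2 (.node 1 (.leaf 114) (.leaf 118)) (.node 1 (.leaf 128) (.leaf 67)))) (.node 4 (.node 2 (.node 1 (.leaf 69) (.leaf 154)) (.node 1 (.leaf 160) (.leaf 164))) (.node 2 (.node 1 (.leaf 79) (.leaf 182)) (.node 1 (.leaf 186) (.leaf 190))))))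
def ref1_1 : T := (.node 16 (.node 8 (.node 4 (.node 2 (.node 1 (.leaf 89) (.leaf 149)) (.node 1 (.leaf 208) (.leaf 99))) (.node 2 (.node 1 (.leaf 220) (.leaf 113)) (.node 1 (.leaf 107) (.leaf 227)))) (.node 4 (.node 2 (.node 1 (.leaf 111) (.leaf 250)) (.node 1 (.leaf 117) (.leaf 120))) (.node 2 (.node 1 (.leaf 276) (.leaf 278)) (.node 1 (.leaf 143) (.leaf 1164))))) (.node 8 (.node 4 (.node 2 (.node 1 (.leaf 294) (.leaf 169)) (.node 1 (.leaf 141) (.leaf 304))) (.node 2 (.node 1 (.leaf 147) (.leaf 316)) (.node 1 (.leaf 156) (.leaf 159)))) (.node 4 (.node 2 (.node 1 (.leaf 338) (.leaf 163)) (.node 1 (.leaf 177) (.leaf 362))) (.node 2 (.node 1 (.leaf 364) (.leaf 175)) (.node 1 (.leaf 323) (.leaf 378))))))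
def ref1_2 : T := (.node 16 (.node 8 (.node 4 (.node 2 (.node 1 (.leaf 185) (.leaf 188)) (.node 1 (.leaf 201) (.leaf 412))) (.node 2 (.node 1 (.leaf 1200) (.leaf 199)) (.node 1 (.leaf 426) (.leaf 434)))) (.node 4 (.node 2 (.node 1 (.leaf 215) (.leaf 247)) (.node 1 (.leaf 213) (.leaf 454))) (.node 2 (.node 1 (.leaf 458) (.leaf 223)) (.node 1 (.leaf 225) (.leaf 490))))) (.node 8 (.node 4 (.node 2 (.node 1 (.leaf 465) (.leaf 500)) (.node 1 (.leaf 502) (.leaf 242))) (.node 2 (.node 1 (.leaf 510) (.leaf 263)) (.node 1 (.leaf 518) (.leaf 524)))) (.node 4 (.node 2 (.node 1 (.leaf 526) (.leaf 261)) (.node 1 (.leaf 266) (.leaf 538))) (.node 2 (.node 1 (.leaf 542) (.leaf 546)) (.node 1 (.leaf 556) (.leaf 281))))))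
def ref1_3 : T := (.node 16 (.node 8 (.node 4 (.node 2 (.node 1 (.leaf 570) (.leaf 574)) (.node 1 (.leaf 291) (.leaf 592))) (.node 2 (.node 1 (.leaf 297) (.leaf 614)) (.node 1 (.leaf 433) (.leaf 622)))) (.node 4 (.node 2 (.node 1 (.leaf 309) (.leaf 632)) (.node 1 (.leaf 640) (.leaf 441))) (.node 2 (.node 1 (.leaf 319) (.leaf 658)) (.node 1 (.leaf 326) (.leaf 332))))) (.node 8 (.node 4 (.node 2 (.node 1 (.leaf 664) (.leaf 349)) (.node 1 (.leaf 674) (.leaf 680))) (.node 2 (.node 1 (.leaf 347) (.leaf 352)) (.node 1 (.leaf 696) (.leaf 700)))) (.node 4 (.node 2 (.node 1 (.leaf 607) (.leaf 1156)) (.node 1 (.leaf 714) (.leaf 1187))) (.node 2 (.node 1 (.leaf 377) (.leaf 393)) (.node 1 (.leaf 742) (.leaf 744))))))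
def ref1_4 : T := (.node 16 (.node 8 (.node 4 (.node 2 (.node 1 (.leaf 388) (.leaf 391)) (.node 1 (.leaf 750) (.leaf 579))) (.node 2 (.node 1 (.leaf 764) (.leaf 766)) (.node 1 (.leaf 770) (.leaf 774)))) (.node 4 (.node 2 (.node 1 (.leaf 417) (.leaf 420)) (.node 1 (.leaf 804) (.leaf 621))) (.node 2 (.node 1 (.leaf 429) (.leaf 816)) (.node 1 (.leaf 653) (.leaf 822))))) (.node 8 (.node 4 (.node 2 (.node 1 (.leaf 447) (.leaf 669)) (.node 1 (.leaf 844) (.leaf 1192))) (.node 2 (.node 1 (.leaf 477) (.leaf 858)) (.node 1 (.leaf 860) (.leaf 472)))) (.node 4 (.node 2 (.node 1 (.leaf 475) (.leaf 880)) (.node 1 (.leaf 884) (.leaf 486))) (.node 2 (.node 1 (.leaf 494) (.leaf 497)) (.node 1 (.leaf 499) (.leaf 904))))))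
def ref1_5 : T := (.node 16 (.node 8 (.node 4 (.node 2 (.node 1 (.leaf 504) (.leaf 507)) (.node 1 (.leaf 509) (.leaf 835))) (.node 2 (.node 1 (.leaf 938) (.leaf 942)) (.node 1 (.leaf 948) (.leaf 521)))) (.node 4 (.node 2 (.node 1 (.leaf 960) (.leaf 968)) (.node 1 (.leaf 531) (.leaf 978))) (.node 2 (.node 1 (.leaf 537) (.leaf 992)) (.node 1 (.leaf 541) (.leaf 737))))) (.node 8 (.node 4 (.node 2 (.node 1 (.leaf 545) (.leaf 548)) (.node 1 (.leaf 1038) (.leaf 558))) (.node 2 (.node 1 (.leaf 1231) (.leaf 935)) (.node 1 (.leaf 1054) (.leaf 573)))) (.node 4 (.node 2 (.node 1 (.leaf 763) (.leaf 577)) (.node 1 (.leaf 589) (.leaf 594))) (.node 2 (.node 1 (.leaf 1189) (.leaf 831)) (.node 1 (.leaf 796) (.leaf 605))))))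
def ref1_6 : T := (.node 16 (.node 8 (.node 4 (.node 2 (.node 1 (.leaf 610) (.leaf 1116)) (.node 1 (.leaf 617) (.leaf 619))) (.node 2 (.node 1 (.leaf 627) (.leaf 625)) (.node 1 (.leaf 1263) (.leaf 634)))) (.node 4 (.node 2 (.node 1 (.leaf 637) (.leaf 1292)) (.node 1 (.leaf 643) (.leaf 709))) (.node 2 (.node 1 (.leaf 651) (.leaf 1285)) (.node 1 (.leaf 729) (.leaf 661))))) (.node 8 (.node 4 (.node 2 (.node 1 (.leaf 663) (.leaf 843)) (.node 1 (.leaf 667) (.leaf 1340))) (.node 2 (.node 1 (.leaf 1344) (.leaf 677)) (.node 1 (.leaf 1358) (.leaf 685)))) (.node 4 (.node 2 (.node 1 (.leaf 1374) (.leaf 692)) (.node 1 (.leaf 695) (.leaf 1384))) (.node 2 (.node 1 (.leaf 699) (.leaf 702)) (.node 1 (.leaf 1412) (.leaf 1372))))))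
def ref1_7 : T := (.node 16 (.node 8 (.node 4 (.node 2 (.node 1 (.leaf 1416) (.leaf 717)) (.node 1 (.leaf 723) (.leaf 727))) (.node 2 (.node 1 (.leaf 1423) (.leaf 1037)) (.node 1 (.leaf 1458) (.leaf 1466)))) (.node 4 (.node 2 (.node 1 (.leaf 1480) (.leaf 747)) (.node 1 (.leaf 749) (.leaf 1506))) (.node 2 (.node 1 (.leaf 755) (.leaf 759)) (.node 1 (.leaf 1512) (.leaf 768))))) (.node 8 (.node 4 (.node 2 (.node 1 (.leaf 1530) (.leaf 773)) (.node 1 (.leaf 776) (.leaf 1264))) (.node 2 (.node 1 (.leaf 1321) (.leaf 799)) (.node 1 (.leaf 1149) (.leaf 809)))) (.node 4 (.node 2 (.node 1 (.leaf 820) (.leaf 1584)) (.node 1 (.leaf 825) (.leaf 1600))) (.node 2 (.node 1 (.leaf 833) (.leaf 841)) (.node 1 (.leaf 1614) (.leaf 847))))))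
def ref1_8 : T := (.node 16 (.node 8 (.node 4 (.node 2 (.node 1 (.leaf 854) (.leaf 901)) (.node 1 (.leaf 1648) (.leaf 865))) (.node 2 (.node 1 (.leaf 869) (.leaf 874)) (.node 1 (.leaf 1654) (.leaf 1660)))) (.node 4 (.node 2 (.node 1 (.leaf 883) (.leaf 888)) (.node 1 (.leaf 891) (.leaf 899))) (.node 2 (.node 1 (.leaf 906) (.leaf 1582)) (.node 1 (.leaf 1700) (.leaf 1335))))) (.node 8 (.node 4 (.node 2 (.node 1 (.leaf 928) (.leaf 1708)) (.node 1 (.leaf 947) (.leaf 941))) (.node 2 (.node 1 (.leaf 944) (.leaf 959)) (.node 1 (.leaf 1642) (.leaf 1268)))) (.node 4 (.node 2 (.node 1 (.leaf 957) (.leaf 962)) (.node 1 (.leaf 1742) (.leaf 973))) (.node 2 (.node 1 (.leaf 971) (.leaf 1403)) (.node 1 (.leaf 980) (.leaf 983))))))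
def ref1_9 : T := (.node 16 (.node 8 (.node 4 (.node 2 (.node 1 (.leaf 986) (.leaf 1779)) (.node 1 (.leaf 994) (.leaf 1804))) (.node 2 (.node 1 (.leaf 1016) (.leaf 1814)) (.node 1 (.leaf 1489) (.leaf 1828)))) (.node 4 (.node 2 (.node 1 (.leaf 1811) (.leaf 1035)) (.node 1 (.leaf 1844) (.leaf 1041))) (.node 2 (.node 1 (.leaf 1541) (.leaf 1069)) (.node 1 (.leaf 1682) (.leaf 1338))))) (.node 8 (.node 4 (.node 2 (.node 1 (.leaf 1064) (.leaf 1067)) (.node 1 (.leaf 1427) (.leaf 1593))) (.node 2 (.node 1 (.leaf 1123) (.leaf 1866)) (.node 1 (.leaf 1870) (.leaf 1107)))) (.node 4 (.node 2 (.node 1 (.leaf 1629) (.leaf 1444)) (.node 1 (.leaf 1133) (.leaf 1349))) (.node 2 (.node 1 (.leaf 1128) (.leaf 1131)) (.node 1 (.leaf 1894) (.leaf 1898))))))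
def ref1_10 : T := (.node 16 (.node 8 (.node 4 (.node 2 (.node 1 (.leaf 1142) (.leaf 1575)) (.node 1 (.leaf 1908) (.leaf 1914))) (.node 2 (.node 1 (.leaf 1279) (.leaf 1932)) (.node 1 (.leaf 1288) (.leaf 1294)))) (.node 4 (.node 2 (.node 1 (.leaf 1767) (.leaf 1907)) (.node 1 (.leaf 1304) (.leaf 1309))) (.node 2 (.node 1 (.leaf 1941) (.leaf 1881)) (.node 1 (.leaf 1525) (.leaf 1563))))) (.node 8 (.node 4 (.node 2 (.node 1 (.leaf 1332) (.leaf 1342)) (.node 1 (.leaf 1357) (.leaf 1350))) (.node 2 (.node 1 (.leaf 1355) (.leaf 1367)) (.node 1 (.leaf 1362) (.leaf 1365)))) (.node 4 (.node 2 (.node 1 (.leaf 1953) (.leaf 1376)) (.node 1 (.leaf 1992) (.leaf 1397))) (.node 2 (.node 1 (.leaf 1695) (.leaf 1390)) (.node 1 (.leaf 1395) (.leaf 1404))))))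
def ref1_11 : T := (.node 16 (.node 8 (.node 4 (.node 2 (.node 1 (.leaf 1827) (.leaf 1707)) (.node 1 (.leaf 1437) (.leaf 2010))) (.node 2 (.node 1 (.leaf 1773) (.leaf 1432)) (.node 1 (.leaf 1435) (.leaf 1440)))) (.node 4 (.node 2 (.node 1 (.leaf 1448) (.leaf 1567)) (.node 1 (.leaf 1521) (.leaf 1462))) (.node 2 (.node 1 (.leaf 1465) (.leaf 1468)) (.node 1 (.leaf 1501) (.leaf 1490))))) (.node 8 (.node 4 (.node 2 (.node 1 (.leaf 1665) (.leaf 1499)) (.node 1 (.leaf 1783) (.leaf 1511))) (.node 2 (.node 1 (.leaf 1509) (.leaf 1514)) (.node 1 (.leaf 2001) (.leaf 1526)))) (.node 4 (.node 2 (.node 1 (.leaf 1551) (.leaf 1536)) (.node 1 (.leaf 1542) (.leaf 1621))) (.node 2 (.node 1 (.leaf 1549) (.leaf 1556)) (.node 1 (.leaf 1757) (.leaf 1753))))))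
def ref1_12 : T := (.node 16 (.node 8 (.node 4 (.node 2 (.node 1 (.leaf 2046) (.leaf 1573)) (.node 1 (.leaf 1578) (.leaf 1586))) (.node 2 (.node 1 (.leaf 1599) (.leaf 1594)) (.node 1 (.leaf 1859) (.leaf 1606)))) (.node 4 (.node 2 (.node 1 (.leaf 1610) (.leaf 1635)) (.node 1 (.leaf 2037) (.leaf 1626))) (.node 2 (.node 1 (.leaf 1631) (.leaf 1638)) (.node 1 (.leaf 1975) (.leaf 1653))))) (.node 8 (.node 4 (.node 2 (.node 1 (.leaf 1651) (.leaf 1658)) (.node 1 (.leaf 1675) (.leaf 1669))) (.node 2 (.node 1 (.leaf 1671) (.leaf 1678)) (.node 1 (.leaf 1686) (.leaf 1690)))) (.node 4 (.node 2 (.node 1 (.leaf 2068) (.leaf 2074)) (.node 1 (.leaf 1705) (.leaf 1710))) (.node 2 (.node 1 (.leaf 2017) (.leaf 2088)) (.node 1 (.leaf 2057) (.leaf 1983))))))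
def ref1_13 : T := (.node 16 (.node 8 (.node 4 (.node 2 (.node 1 (.leaf 1730) (.leaf 1734)) (.node 1 (.leaf 2065) (.leaf 1746))) (.node 2 (.node 1 (.leaf 1749) (.leaf 2104)) (.node 1 (.leaf 1760) (.leaf 1925)))) (.node 4 (.node 2 (.node 1 (.leaf 2110) (.leaf 1776)) (.node 1 (.leaf 1784) (.leaf 1790))) (.node 2 (.node 1 (.leaf 1841) (.leaf 1797)) (.node 1 (.leaf 1961) (.leaf 1835))))) (.node 8 (.node 4 (.node 2 (.node 1 (.leaf 1809) (.leaf 1813)) (.node 1 (.leaf 1818) (.leaf 1821))) (.node 2 (.node 1 (.leaf 1830) (.leaf 1833)) (.node 1 (.leaf 1889) (.leaf 1848)))) (.node 4 (.node 2 (.node 1 (.leaf 1852) (.leaf 1857)) (.node 1 (.leaf 1861) (.leaf 1868))) (.node 2 (.node 1 (.leaf 2133) (.leaf 1877)) (.node 1 (.leaf 1884) (.leaf 1890))))))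
def ref1_14 : T := (.node 16 (.node 8 (.node 4 (.node 2 (.node 1 (.leaf 2097) (.leaf 1931)) (.node 1 (.leaf 1905) (.leaf 1912))) (.node 2 (.node 1 (.leaf 1918) (.leaf 1921)) (.node 1 (.leaf 1927) (.leaf 1949)))) (.node 4 (.node 2 (.node 1 (.leaf 1935) (.leaf 1965)) (.node 1 (.leaf 1947) (.leaf 1951))) (.node 2 (.node 1 (.leaf 1955) (.leaf 2103)) (.node 1 (.leaf 2119) (.leaf 1970))))) (.node 8 (.node 4 (.node 2 (.node 1 (.leaf 1976) (.leaf 1984)) (.node 1 (.leaf 2005) (.leaf 1996))) (.node 2 (.node 1 (.leaf 2164) (.leaf 2006)) (.node 1 (.leaf 2012) (.leaf 2018)))) (.node 4 (.node 2 (.node 1 (.leaf 2023) (.leaf 2030)) (.node 1 (.leaf 2178) (.leaf 2041))) (.node 2 (.node 1 (.leaf 2177) (.leaf 2054)) (.node 1 (.leaf 2062) (.leaf 2072))))))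
def ref1_15 : T := (.node 12 (.node 6 (.node 3 (.node 1 (.leaf 2078) (.node 1 (.leaf 2141) (.leaf 2147))) (.node 1 (.leaf 2092) (.node 1 (.leaf 2095) (.leaf 2099)))) (.node 3 (.node 1 (.leaf 2108) (.node 1 (.leaf 2112) (.leaf 2116))) (.node 1 (.leaf 2161) (.node 1 (.leaf 2200) (.leaf 2130))))) (.node 6 (.node 3 (.node 1 (.leaf 2138) (.node 1 (.leaf 2199) (.leaf 2152))) (.node 1 (.leaf 2158) (.node 1 (.leaf 2170) (.leaf 2173)))) (.node 3 (.node 1 (.leaf 2182) (.node 1 (.leaf 2188) (.leaf 2194))) (.node 1 (.leaf 2197) (.node 1 (.leaf 2204) (.leaf 2211))))))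
/-- Packed data. -/
def ref1 : T := (.node 256 (.node 128 (.node 64 (.node 32 ref1_0 ref1_1) (.node 32 ref1_2 ref1_3)) (.node 64 (.node 32 ref1_4 ref1_5) (.node 32 ref1_6 ref1_7))) (.node 128 (.node 64 (.node 32 ref1_8 ref1_9) (.node 32 ref1_10 ref1_11)) (.node 64 (.node 32 ref1_12 ref1_13) (.node 32 ref1_14 ref1_15))))
set_option maxRecDepth 100000 in
theorem table_ok0 : edgesOk facts node nxt0 ref0 0 1106 504 = true := by decide +kernel

set_option maxRecDepth 100000 in
theorem table_ok1 : edgesOk facts node nxt1 ref1 1 1106 504 = true := by decide +kernel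

end Cfsg.Agent.M22Mult38.AltCert
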