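import Cfsg.Agent.J1Order38.Cert

/-!
Cosets covering a finite group, from a checked derivation; free reduction of words; the order
bound that follows.
-/

set_option autoImplicit false

namespace Cfsg.Agent.M22Mult38

open J1Order38.Cert

variable {G : Type*} [Group G]

theorem run_next {g : ℕ → G} {K : Subgroup G} {t : T} {rels subs : List (List ℕ)}
    (hr : ∀ w ∈ rels, eval g w = 1) (hlet : ∀ w ∈ rels, ∀ x ∈ w, x < 10)
    (hs : ∀ w ∈ subs, eval g w ∈ K) {ss : List ℕ} {k k' c c' : ℕ}
    (h : run t rels subs k c ss = some c') (hk : k + ss.length = k') (hI : Inv g K t k c) :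
    Inv g K t k' c' :=
  hk ▸ run_sound hr hlet hs ss h hI

/-- Test a property below a bound. -/
def allLt : ℕ → (ℕ → Bool) → Bool
  | 0, _ => true
  | n + 1, f => f n && allLt n f

theorem of_allLt : ∀ {n : ℕ} {f : ℕ → Bool}, allLt n f = true → ∀ i < n, f i = true
  | n + 1, f, h, i, hi => by
    simp only [allLt, Bool.and_eq_true] at h
    rcases Nat.lt_succ_iff_lt_or_eq.1 hi with hi | rfl
    · exact of_allLt h.2 i hi
    · exact h.1

/-- The table of images under a generator is justified by derived identities. -/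
def edgesOk (facts node nxt ref : T) (k N n : ℕ) : Bool :=
  allLt n fun l =>
    let r := ref.get l
    let m := nxt.get l
    let v := facts.get (r / 2)
    Nat.blt (r / 2) N && Nat.blt m n &&
      (bif Nat.beq (r % 2) 0 then
        Nat.beq (srcT v) (node.get l) && Nat.beq (dstT v) (node.get m) && Nat.beq (letT v) (2 * k)
      else
        Nat.beq (srcT v) (node.get m) && Nat.beq (dstT v) (node.get l) && Nat.beq (letT v) (2 * k + 1))

theorem edge_of_edgesOk {g : ℕ → G} {K : Subgroup G} {el : ℕ → G} {facts node nxt ref : T}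
    {k N n : ℕ} (hk : k < 5) (h : edgesOk facts node nxt ref k N n = true)
    (hel : ∀ i < N, Valid g K el (facts.get i)) :
    ∀ l < n, nxt.get l < n ∧ el (node.get l) * g k * (el (node.get (nxt.get l)))⁻¹ ∈ K := by
  intro l hl
  have h1 := of_allLt h l hl
  simp only [Bool.and_eq_true, Nat.blt, Nat.ble_eq] at h1
  obtain ⟨⟨hr, hm⟩, hv⟩ := h1
  have hval := hel _ hr
  unfold Valid at hval
  refine ⟨hm, ?_⟩
  cases hb : Nat.beq (ref.get l % 2) 0 with
  | true =>
    simp only [hb, cond_true, Bool.and_eq_true] at hv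
    rw [Nat.eq_of_beq_eq_true hv.1.1, Nat.eq_of_beq_eq_true hv.1.2, Nat.eq_of_beq_eq_true hv.2] at hval
    have e : L g (2 * k) = g k := by
      unfold L; rw [if_pos (by omega), if_pos (by omega)]; congr 1; omega
    rwa [e] at hval
  | false =>
    simp only [hb, cond_false, Bool.and_eq_true] at hv
    rw [Nat.eq_of_beq_eq_true hv.1.1, Nat.eq_of_beq_eq_true hv.1.2, Nat.eq_of_beq_eq_true hv.2] at hval
    have e : L g (2 * k + 1) = (g k)⁻¹ := by
      unfold L; rw [if_pos (by omega), if_neg (by omega)]; congr 2; omega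
    rw [e] at hval
    have := inv_mem hval
    simpa [mul_assoc] using this

/-- If every generator maps named cosets to named cosets, the named cosets are all. -/
theorem card_le_mul [Finite G] {g : ℕ → G} {m n : ℕ} (hn : 0 < n) {K : Subgroup G} {el : ℕ → G}
    {node : T} {nxt : ℕ → T} (htop : Subgroup.closure (g '' {i | i < m}) = ⊤)
    (h0 : el (node.get 0) = 1)
    (hedge : ∀ k < m, ∀ l < n, (nxt k).get l < n ∧
      el (node.get l) * g k * (el (node.get ((nxt k).get l)))⁻¹ ∈ K) :
    Nat.card G ≤ n * Nat.card K := by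
  let P : Submonoid G :=
    { carrier := {a | ∀ l : Fin n, ∃ l' : Fin n, el (node.get l) * a * (el (node.get l'))⁻¹ ∈ K}
      one_mem' := fun l => ⟨l, by simp⟩
      mul_mem' := by
        intro a b ha hb l
        obtain ⟨l1, h1⟩ := ha l
        obtain ⟨l2, h2⟩ := hb l1
        exact ⟨l2, by simpa [mul_assoc] using mul_mem h1 h2⟩ }
  have hP : ∀ a : G, a ∈ P := by
    intro a
    have ha : a ∈ Submonoid.closure (g '' {i | i < m}) := by
      rw [← Subgroup.closure_toSubmonoid_of_finite, htop]; exact Subgroup.mem_top a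
    refine (Submonoid.closure_le.2 ?_) ha
    rintro _ ⟨k, hk, rfl⟩ l
    exact ⟨⟨_, (hedge k hk l l.isLt).1⟩, (hedge k hk l l.isLt).2⟩
  have hsur : Function.Surjective fun p : Fin n × K => (p.2 : G) * el (node.get p.1) := by
    intro a
    obtain ⟨l', h⟩ := hP a ⟨0, hn⟩
    refine ⟨(l', ⟨_, h⟩), ?_⟩
    simp [h0]
  simpa [Nat.card_prod] using Nat.card_le_card_of_surjective _ hsur

/-- Free reduction. -/
def red : List ℕ → List ℕ
  | [] => []
  | x :: w =>
    match red w with
    | [] => [x]
    | y :: r => bif Nat.blt x 10 && Nat.beq y (invL x) then r else x :: y :: r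

theorem eval_red (g : ℕ → G) : ∀ w : List ℕ, eval g (red w) = eval g w
  | [] => rfl
  | x :: w => by
    have ih := eval_red g w
    rw [eval_cons, ← ih]
    cases h : red w with
    | nil => simp [red, h]
    | cons y r =>
      rw [eval_cons, show red (x :: w) = bif Nat.blt x 10 && Nat.beq y (invL x) then r else x :: y :: r from
        by simp only [red, h]]
      cases hb : (Nat.blt x 10 && Nat.beq y (invL x)) with
      | false => simp [eval_cons]
      | true =>
        simp only [Bool.and_eq_true, Nat.blt, Nat.ble_eq] at hb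
        rw [Nat.eq_of_beq_eq_true hb.2, L_invL g (show x < 10 by omega)]
        simp

end Cfsg.Agent.M22Mult38
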