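import Cfsg.Agent.Lib.Golay.Mult.Tables
import Cfsg.Agent.Lib.Golay.Simple
import Cfsg.Agent.M22Mult38.Engine
import Cfsg.Agent.M22Mult38.Words

/-!
Three elements of M₂₂ satisfying the relations, and generating it.
-/

set_option autoImplicit false

namespace Cfsg.Agent.M22Mult38

open Golay Golay.Mult J1Order38.Cert

/-- The inverse of a table. -/
def invTab (l : List ℕ) : List ℕ := (List.range 24).map fun i => l.idxOf i

/-- The table of a generator or its inverse. -/
def letTab (x : ℕ) : List ℕ :=
  bif Nat.beq (x % 2) 0 then genTabs.getD (x / 2) idTab else invTab (genTabs.getD (x / 2) idTab)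

/-- The table of a word. -/
def wordTab : List ℕ → List ℕ
  | [] => idTab
  | x :: w => comp (letTab x) (wordTab w)

theorem gen_facts :
    (genTabs.all fun l => checkAut l && isPermTab l && (l.getD 23 0 == 23) && (l.getD 0 0 == 0) &&
      (comp l (invTab l) == idTab) && isPermTab (invTab l)) = true ∧ genTabs.length = 3 := by
  decide +kernel

theorem exists_gen : ∀ k < 3, ∃ x : Spor.M22, Tab x.1 (genTabs.getD k idTab) ∧
    Tab (x⁻¹ : Spor.M22).1 (invTab (genTabs.getD k idTab)) := by
  intro k hk
  have hl : genTabs.getD k idTab ∈ genTabs := by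
    rw [List.getD_eq_getElem _ _ (by rw [gen_facts.2]; exact hk)]
    exact List.getElem_mem _
  have h := List.all_eq_true.1 gen_facts.1 _ hl
  simp only [Bool.and_eq_true, beq_iff_eq] at h
  obtain ⟨⟨⟨⟨⟨hc, hp⟩, h23⟩, h0⟩, hinv⟩, hpi⟩ := h
  have hT := tab_permOf hp
  have hmem : permOf _ hp ∈ Spor.M22 := by
    refine ⟨⟨hT.mem_M24 hc, ?_⟩, ?_⟩
    · show permOf _ hp none = none
      rw [hT.apply, show idx none = 23 from rfl, h23]
      rfl
    · show permOf _ hp (some 0) = some 0
      rw [hT.apply, show idx (some 0) = 0 from rfl, h0]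
      decide +kernel
  refine ⟨⟨_, hmem⟩, hT, ?_⟩
  have h1 : permOf _ hp * permOf _ hpi = 1 := by
    have h := hT.mul (tab_permOf hpi)
    rw [hinv] at h
    exact tab_unique h tab_one
  have h2 : ((⟨_, hmem⟩ : Spor.M22)⁻¹).1 = permOf _ hpi := inv_eq_of_mul_eq_one_right h1
  rw [h2]
  exact tab_permOf hpi

/-- The three generators. -/
noncomputable def gm (k : ℕ) : Spor.M22 :=
  if h : k < 3 then (exists_gen k h).choose else 1

theorem tab_gm {k : ℕ} (hk : k < 3) : Tab (gm k).1 (genTabs.getD k idTab) ∧
    Tab (gm k)⁻¹.1 (invTab (genTabs.getD k idTab)) := by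
  rw [gm, dif_pos hk]
  exact (exists_gen k hk).choose_spec

theorem tab_eval : ∀ {w : List ℕ}, (w.all fun x => Nat.blt x 6) = true →
    Tab (eval gm w).1 (wordTab w)
  | [], _ => by rw [eval_nil]; exact tab_one
  | x :: w, h => by
    simp only [List.all_cons, Bool.and_eq_true, Nat.blt, Nat.ble_eq] at h
    rw [eval_cons, wordTab]
    refine tab_coe_mul ?_ (tab_eval (by simpa [Nat.blt] using h.2))
    obtain ⟨hp, hn⟩ := tab_gm (show x / 2 < 3 by omega)
    unfold letTab L
    rw [if_pos (show x < 10 by omega)]
    cases hb : Nat.beq (x % 2) 0 with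
    | true => rw [if_pos (Nat.eq_of_beq_eq_true hb)]; exact hp
    | false =>
      rw [if_neg (fun h0 => by rw [h0] at hb; simp at hb)]
      exact hn

theorem rels_facts :
    (allRels.all fun w => (w.all fun x => Nat.blt x 6) && (wordTab w == idTab)) = true := by
  decide +kernel

theorem eval_allRels {w : List ℕ} (hw : w ∈ allRels) : eval gm w = 1 := by
  have h := List.all_eq_true.1 rels_facts w hw
  simp only [Bool.and_eq_true, beq_iff_eq] at h
  exact eq_one_of_tab (h.2 ▸ tab_eval h.1)

theorem eval_eq_of_wordTab {v w : List ℕ} (hv : (v.all fun x => Nat.blt x 6) = true)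
    (hw : (w.all fun x => Nat.blt x 6) = true) (h : wordTab v = wordTab w) :
    eval gm v = eval gm w :=
  eq_of_tab (h ▸ tab_eval hv) (tab_eval hw)

theorem genWords_facts :
    ((genWords.getD 0 []).all fun x => Nat.blt x 6) = true ∧
    ((genWords.getD 1 []).all fun x => Nat.blt x 6) = true ∧
    wordTab (genWords.getD 0 []) = doubleTab ∧ wordTab (genWords.getD 1 []) = conj22Tab := by
  decide +kernel

theorem closure_gm : Subgroup.closure (gm '' {i | i < 3}) = ⊤ := by
  set S := Subgroup.closure (gm '' {i | i < 3})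
  have hev : ∀ w : List ℕ, eval gm w ∈ S := by
    intro w
    induction w with
    | nil => simp [one_mem]
    | cons x w ih =>
      rw [eval_cons]
      refine mul_mem ?_ ih
      have hg : ∀ k, gm k ∈ S := by
        intro k
        by_cases hk : k < 3
        · exact Subgroup.subset_closure ⟨k, hk, rfl⟩
        · rw [gm, dif_neg hk]; exact one_mem _
      unfold L
      split_ifs
      · exact hg _
      · exact inv_mem (hg _)
      · exact one_mem _
  have hle : Spor.M22 ≤ S.map (Spor.M22).subtype := by
    refine M22_eq_closure.symm.le.trans ((Subgroup.closure_le _).2 ?_)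
    rintro _ (rfl | rfl)
    · refine ⟨eval gm (genWords.getD 0 []), hev _, ?_⟩
      have h := tab_eval genWords_facts.1
      rw [genWords_facts.2.2.1] at h
      exact tab_unique h (tab_permOf _)
    · refine ⟨eval gm (genWords.getD 1 []), hev _, ?_⟩
      have h := tab_eval genWords_facts.2.1
      rw [genWords_facts.2.2.2] at h
      exact tab_unique h (tab_permOf _)
  rw [eq_top_iff]
  intro x _
  obtain ⟨y, hy, hyx⟩ := hle x.2
  exact Subtype.ext hyx ▸ hy

end Cfsg.Agent.M22Mult38
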