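import Cfsg.Agent.M22Mult38.Alt
import Cfsg.Agent.M22Mult38.Gen
import Cfsg.Agent.M22Mult38.MainCert
import Cfsg.Agent.Lib.Schur.Transfer
import Cfsg.Agent.Lib.Golay.Order
import Cfsg.Agent.Mult93.Covers

/-!
A group satisfying the relations has order at most twice that of M₂₂; a stem extension of M₂₂ has
kernel of order at most twelve.
-/

set_option autoImplicit false

namespace Cfsg.Agent.M22Mult38

open Golay J1Order38.Cert Subgroup

/-- A finite group generated by three elements with the relations has order at most `887040`. -/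
theorem card_le_of_rels {G : Type*} [Group G] [Finite G] {g : ℕ → G}
    (hr : ∀ w ∈ allRels, eval g w = 1) (htop : closure (g '' {i | i < 3}) = ⊤) :
    Nat.card G ≤ 887040 := by
  have hs : ∀ w ∈ mainSubs, eval g w ∈ altSub g := by
    intro w hw
    simp only [mainSubs, List.mem_cons, List.not_mem_nil, or_false] at hw
    rcases hw with rfl | rfl
    · have h : g 0 ∈ altSub g := subset_closure ⟨0, by norm_num, rfl⟩
      simpa [L] using h
    · have h : g 1 ∈ altSub g := subset_closure ⟨1, by norm_num, rfl⟩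
      simpa [L] using h
  obtain ⟨-, el, h0, hel⟩ := MainCert.derived hr hs
  have hV := fun i hi => (hel i hi).2.2.2
  have h1 : Nat.card G ≤ 352 * Nat.card (altSub g) := by
    refine card_le_mul (el := el) (node := MainCert.node)
      (nxt := fun k => if k = 0 then MainCert.nxt0 else if k = 1 then MainCert.nxt1 else MainCert.nxt2)
      (by norm_num) htop ?_ ?_
    · rw [show MainCert.node.get 0 = 0 by decide +kernel, h0]
    · intro k hk l hl
      rcases (show k = 0 ∨ k = 1 ∨ k = 2 by omega) with rfl | rfl | rfl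
      · exact edge_of_edgesOk (by norm_num) MainCert.table_ok0 hV l hl
      · exact edge_of_edgesOk (by norm_num) MainCert.table_ok1 hV l hl
      · exact edge_of_edgesOk (by norm_num) MainCert.table_ok2 hV l hl
  have h2 : Nat.card (altSub g) ≤ 2520 :=
    card_altSub_le fun w hw => hr w (List.mem_append_left _ (List.mem_append_left _ hw))
  calc Nat.card G ≤ 352 * Nat.card (altSub g) := h1
    _ ≤ 352 * 2520 := Nat.mul_le_mul_left _ h2

theorem wordTab_facts :
    (wordTab [2]).getD 3 0 ≠ 3 ∧
      wordTab (conjWord ++ [0] ++ winv conjWord) = wordTab [4] ∧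
      (conjWord ++ [0] ++ winv conjWord).all (fun x => Nat.blt x 6) = true := by
  decide +kernel

theorem gm_one_ne : gm 1 ≠ 1 := by
  intro h
  have h1 := tab_eval (w := [2]) rfl
  rw [show eval gm [2] = gm 1 by simp [L], h] at h1
  refine wordTab_facts.1 ?_
  have h2 : Tab 1 (wordTab [2]) := h1
  rw [← h2 3 (by norm_num), tab_one 3 (by norm_num)]
  decide

theorem eval_conjWord : eval gm conjWord * gm 0 * (eval gm conjWord)⁻¹ = gm 2 := by
  have h := eval_eq_of_wordTab wordTab_facts.2.2 (w := [4]) rfl wordTab_facts.2.1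
  rw [eval_append, eval_append, eval_winv gm (by decide)] at h
  simpa [L, mul_assoc] using h

theorem nonempty_mulEquiv_altSub : Nonempty (altSub gm ≃* alternatingGroup (Fin 7)) :=
  nonempty_mulEquiv_alt7 (fun _ hw => eval_allRels
    (List.mem_append_left _ (List.mem_append_left _ hw))) gm_one_ne

theorem card_altSub : Nat.card (altSub gm) = 2520 := by
  obtain ⟨e⟩ := nonempty_mulEquiv_altSub
  rw [Nat.card_congr e.toEquiv, card_alt7]

theorem commutator_altSub : commutator (altSub gm) = ⊤ := by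
  obtain ⟨e⟩ := nonempty_mulEquiv_altSub
  refine map_injective (f := e.toMonoidHom) e.injective ?_
  rw [_root_.commutator_def, map_commutator, Subgroup.map_top_of_surjective _ e.surjective,
    ← _root_.commutator_def, commutator_alternatingGroup_eq_top (by simp)]

theorem commutator_M22 : commutator Spor.M22 = ⊤ := by
  haveI := isSimpleGroup_M22
  rcases IsSimpleGroup.eq_bot_or_eq_top_of_normal (commutator Spor.M22) inferInstance with h | h
  · exfalso
    have h1 : (commutator (altSub gm)).map (altSub gm).subtype ≤ commutator Spor.M22 := by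
      rw [_root_.commutator_def, map_commutator, _root_.commutator_def]
      exact commutator_mono le_top le_top
    rw [h, commutator_altSub, ← MonoidHom.range_eq_map, range_subtype, le_bot_iff] at h1
    exact gm_one_ne (mem_bot.1 (h1 ▸ subset_closure ⟨1, by norm_num, rfl⟩))
  · exact h

/-- Two shapes of the relations. -/
theorem wits_facts :
    (wits.all fun e =>
      let r' := if e.2.1 then winv e.1 else e.1
      let t1 := e.2.2.2.1 ++ bases.getD e.2.2.2.2.1 [] ++ winv e.2.2.2.1
      let t2 := e.2.2.2.2.2.1 ++ bases.getD e.2.2.2.2.2.2 [] ++ winv e.2.2.2.2.2.1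
      (red (e.2.2.1 ++ r' ++ winv e.2.2.1) == red (t1 ++ winv t2)) &&
        (baseOrd.getD e.2.2.2.2.1 0 == baseOrd.getD e.2.2.2.2.2.2 0) &&
        e.1.all (fun x => Nat.blt x 10) && e.2.2.1.all (fun x => Nat.blt x 10) &&
        e.2.2.2.1.all (fun x => Nat.blt x 10) && e.2.2.2.2.2.1.all (fun x => Nat.blt x 10) &&
        Nat.blt e.2.2.2.2.1 8 && Nat.blt e.2.2.2.2.2.2 8 &&
        t2.all (fun x => Nat.blt x 10)) = true := by
  decide +kernel

/-- Two elements of equal small order differing by a central element of order dividing 176. -/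
theorem eq_of_eq_mul_central {Q : Type*} [Group Q] {x y z : Q} {n : ℕ} (hn : n = 3 ∨ n = 5)
    (hx : x ^ n = 1) (hy : y ^ n = 1) (hz : Commute y z) (hzi : z ^ 176 = 1) (h : x = y * z) :
    z = 1 := by
  have h1 : z ^ n = 1 := by rwa [h, hz.mul_pow, hy, one_mul] at hx
  have h2 : orderOf z ∣ Nat.gcd n 176 :=
    Nat.dvd_gcd (orderOf_dvd_of_pow_eq_one h1) (orderOf_dvd_of_pow_eq_one hzi)
  rcases hn with rfl | rfl <;> exact orderOf_eq_one_iff.1 (Nat.dvd_one.1 (by simpa using h2))

theorem bases_pow {Q : Type*} [Group Q] {q : ℕ → Q} (h0 : q 0 ^ 3 = 1) (h1 : q 1 ^ 5 = 1)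
    (h2 : q 2 ^ 3 = 1) {k : ℕ} (hk : k < 8) :
    eval q (bases.getD k []) ^ baseOrd.getD k 0 = 1 := by
  have h10 : q 1 ^ 10 = 1 := by rw [show 10 = 5 * 2 by norm_num, pow_mul, h1, one_pow]
  interval_cases k <;> simp [bases, baseOrd, L, inv_pow, h0, h1, h2, h10, ← pow_two, ← pow_mul]

theorem rels_of_data {Q H : Type*} [Group Q] [Group H] (τ : Q →* H) (hc : τ.ker ≤ center Q)
    (h176 : ∀ z ∈ τ.ker, z ^ 176 = 1) {q : ℕ → Q}
    (hτ : ∀ w ∈ allRels, eval (fun k => τ (q k)) w = 1)
    (halt : ∀ w ∈ altRels, eval q w = 1) (h2 : q 2 ^ 3 = 1) :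
    ∀ w ∈ allRels, eval q w = 1 := by
  intro r hr
  have h0 := alt_a_pow halt
  have h1 := alt_b_pow halt
  rcases List.mem_append.1 hr with hr' | hr'
  · rcases List.mem_append.1 hr' with hr'' | hr''
    · exact halt r hr''
    · rw [List.mem_singleton.1 hr'']
      simpa [L, pow_succ, mul_assoc] using h2
  · obtain ⟨e, he, rfl⟩ := List.mem_map.1 hr'
    obtain ⟨r, b, s, w, k, w2, k2⟩ := e
    have hf := List.all_eq_true.1 wits_facts _ he
    simp only [Bool.and_eq_true, beq_iff_eq, List.all_eq_true, Nat.blt, Nat.ble_eq] at hf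
    obtain ⟨⟨⟨⟨⟨⟨⟨⟨hred, hord⟩, hlr⟩, hls⟩, hlw⟩, hlw2⟩, hk⟩, hk2⟩, hlt⟩ := hf
    set t1 := w ++ bases.getD k [] ++ winv w with ht1
    set t2 := w2 ++ bases.getD k2 [] ++ winv w2 with ht2
    have hval : eval q s * eval q (if b then winv r else r) * (eval q s)⁻¹ =
        eval q t1 * (eval q t2)⁻¹ := by
      have h := congrArg (eval q) hred
      rw [eval_red, eval_red, eval_append, eval_append, eval_winv q (fun x hx => hls x hx),
        eval_append, eval_winv q (fun x hx => hlt x hx)] at h
      exact h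
    have hr1 : eval (fun k => τ (q k)) r = 1 := hτ r hr
    set z := (eval q t2)⁻¹ * eval q t1 with hz
    have hrb : τ (eval q (if b then winv r else r)) = 1 := by
      cases b
      · simpa [map_eval] using hr1
      · rw [if_pos rfl, eval_winv q (fun x hx => hlr x hx), map_inv, map_eval, hr1, inv_one]
    have hker : z ∈ τ.ker := by
      have h := congrArg τ hval
      rw [map_mul, map_mul, map_mul, hrb, mul_one, map_inv, mul_inv_cancel, map_inv,
        eq_comm, mul_inv_eq_one] at h
      rw [hz, MonoidHom.mem_ker, map_mul, map_inv, h, inv_mul_cancel]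
    have hpow : ∀ {v : List ℕ} {m : ℕ}, (∀ x ∈ v, x < 10) → m < 8 →
        eval q (v ++ bases.getD m [] ++ winv v) ^ baseOrd.getD m 0 = 1 := by
      intro v m hv hm
      rw [eval_append, eval_append, eval_winv q hv, conj_pow, bases_pow h0 h1 h2 hm, mul_one,
        mul_inv_cancel]
    have hn : baseOrd.getD k 0 = 3 ∨ baseOrd.getD k 0 = 5 := by
      have : k < 8 := hk
      interval_cases k <;> simp [baseOrd]
    have hz1 : z = 1 := eq_of_eq_mul_central hn (hpow (fun x hx => hlw x hx) hk)
      (hord ▸ hpow (fun x hx => hlw2 x hx) hk2) (mem_center_iff.1 (hc hker) _)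
      (h176 z hker) (by rw [hz, mul_inv_cancel_left])
    rw [hz, inv_mul_eq_one] at hz1
    rw [hz1, mul_inv_cancel, conj_eq_one_iff] at hval
    cases b
    · simpa using hval
    · rw [if_pos rfl, eval_winv q (fun x hx => hlr x hx), inv_eq_one] at hval
      exact hval

/-- If `K` is central and contained in the commutator subgroup then lifts of generators generate. -/
theorem eq_top_of_map_eq_top {Γ H : Type*} [Group Γ] [Group H] {σ : Γ →* H}
    (hσ : Cfsg.IsStemExtension σ) {S : Subgroup Γ} (h : S.map σ = ⊤) : S = ⊤ := by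
  have hc : commutator Γ ≤ S := by
    rw [Schur.commutator_eq_map σ hσ.2.1 S.subtype fun y => by
      obtain ⟨x, hx, e⟩ := (h.symm ▸ mem_top y : y ∈ S.map σ)
      exact ⟨⟨x, hx⟩, e⟩]
    exact (map_mono le_top).trans (by rw [← MonoidHom.range_eq_map, range_subtype])
  rw [eq_top_iff]
  intro x _
  obtain ⟨y, hy, e⟩ := (h.symm ▸ mem_top (σ x) : σ x ∈ S.map σ)
  have h1 : y⁻¹ * x ∈ S := hc (hσ.2.2 (by simp [MonoidHom.mem_ker, e]))
  simpa using mul_mem hy h1

theorem card_ker_le_twelve {Γ : Type*} [Group Γ] [Finite Γ] (σ : Γ →* Spor.M22)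
    (hσ : Cfsg.IsStemExtension σ) : Nat.card σ.ker ≤ 12 := by
  obtain ⟨hs, hc, hcom⟩ := hσ
  set Γ0 := (altSub gm).comap σ
  set σ0 := σ.subgroupComap (altSub gm)
  have hσ0 : Function.Surjective σ0 := σ.subgroupComap_surjective_of_surjective _ hs
  have hk0 : ∀ x : Γ0, x ∈ σ0.ker ↔ (x : Γ) ∈ σ.ker := fun x => by
    simp only [MonoidHom.mem_ker]
    exact Subtype.ext_iff
  have hc0 : σ0.ker ≤ center Γ0 := fun x hx => mem_center_iff.2 fun y =>
    Subtype.ext (mem_center_iff.1 (hc ((hk0 x).1 hx)) y)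
  set K1 := (σ0.ker ⊓ commutator Γ0).map Γ0.subtype with hK1
  have hK1k : K1 ≤ σ.ker := by
    rintro _ ⟨x, hx, rfl⟩
    exact (hk0 x).1 hx.1
  haveI : K1.Normal := ⟨fun n hn g => by
    rw [mem_center_iff.1 (hc (hK1k hn)) g, mul_inv_cancel_right]; exact hn⟩
  have hK1c : Nat.card K1 ≤ 6 := by
    obtain ⟨e⟩ := nonempty_mulEquiv_altSub
    obtain ⟨π, hπ⟩ := Schur.exists_surjective_mult σ0 hσ0 hc0
    obtain ⟨f⟩ := Schur.nonempty_mulEquiv_mult
      (Schur.hasSchurMultiplier_congr e.symm Mult93.multiplier_alt7)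
    rw [hK1, card_map_of_injective Γ0.subtype_injective]
    refine (Nat.card_le_card_of_surjective π hπ).trans (le_of_eq ?_)
    rw [← Nat.card_congr f.toEquiv, Nat.card_congr Multiplicative.toAdd, Nat.card_zmod]
  set D := (commutator Γ0).map Γ0.subtype with hD
  have hDmap : altSub gm ≤ D.map σ := by
    intro y hy
    have h : (⟨y, hy⟩ : altSub gm) ∈ (commutator Γ0).map σ0 := by
      rw [_root_.commutator_def, map_commutator, map_top_of_surjective _ hσ0,
        ← _root_.commutator_def, commutator_altSub]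
      exact mem_top _
    obtain ⟨x, hx, e⟩ := h
    exact ⟨x, ⟨x, hx, rfl⟩, congrArg Subtype.val e⟩
  obtain ⟨A, hA, hAg⟩ := hDmap (subset_closure ⟨0, by norm_num, rfl⟩ : gm 0 ∈ altSub gm)
  obtain ⟨B, hB, hBg⟩ := hDmap (subset_closure ⟨1, by norm_num, rfl⟩ : gm 1 ∈ altSub gm)
  have hDK : ∀ x ∈ D, σ x = 1 → x ∈ K1 := by
    rintro _ ⟨x, hx, rfl⟩ h1
    exact ⟨x, ⟨(hk0 x).2 h1, hx⟩, rfl⟩
  obtain ⟨G0, hG0⟩ := hs (gm 2)
  set t : ℕ → Γ := fun k => if k = 0 then A else if k = 1 then B else G0
  set W := eval t conjWord with hW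
  set l : ℕ → Γ := fun k => if k = 0 then A else if k = 1 then B else
    if k = 2 then W * A * W⁻¹ else 1
  have hσt : ∀ k < 3, σ (t k) = gm k := by
    intro k hk; interval_cases k <;> simp [t, hAg, hBg, hG0]
  have hσW : σ W = eval gm conjWord := by
    rw [hW, map_eval]
    exact eval_congr_lt (m := 3) hσt (by decide)
  have hσl : ∀ k < 3, σ (l k) = gm k := by
    intro k hk
    interval_cases k
    · simp [l, hAg]
    · simp [l, hBg]
    · simp only [l, OfNat.ofNat_ne_zero, if_false, OfNat.ofNat_ne_one, if_true, map_mul, map_inv,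
        hσW, hAg, eval_conjWord]
  set q : ℕ → Γ ⧸ K1 := fun k => QuotientGroup.mk' K1 (l k)
  set τ : Γ ⧸ K1 →* Spor.M22 := QuotientGroup.lift K1 σ hK1k
  have hker : τ.ker = σ.ker.map (QuotientGroup.mk' K1) := QuotientGroup.ker_lift _ _ _
  have hcq : τ.ker ≤ center (Γ ⧸ K1) := by
    rw [hker]
    rintro _ ⟨x, hx, rfl⟩
    rw [mem_center_iff]
    intro y
    obtain ⟨y, rfl⟩ := QuotientGroup.mk'_surjective K1 y
    rw [← map_mul, ← map_mul, mem_center_iff.1 (hc hx) y]
  have hidx : (altSub gm).index = 176 := by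
    have h := (altSub gm).card_mul_index
    rw [card_altSub, card_M22] at h
    omega
  have h176 : ∀ z ∈ τ.ker, z ^ 176 = 1 := by
    rw [hker]
    rintro _ ⟨x, hx, rfl⟩
    obtain ⟨y, hy, hyx⟩ := Schur.pow_index_mem_commutator Γ0 (hc hx) (hcom hx)
    rw [(altSub gm).index_comap_of_surjective hs, hidx] at hyx
    have hmem : x ^ 176 ∈ K1 := hDK _ ⟨y, hy, hyx⟩ (by rw [map_pow, hx, one_pow])
    rw [← map_pow]
    exact (QuotientGroup.eq_one_iff _).2 hmem
  have hτq : ∀ w : List ℕ, (∀ x ∈ w, x < 6) → eval (fun k => τ (q k)) w = eval gm w :=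
    fun w hw => eval_congr_lt (m := 3) (fun k hk => hσl k hk) hw
  have hlet : ∀ w ∈ allRels, ∀ x ∈ w, x < 6 := by decide +kernel
  have hτ : ∀ w ∈ allRels, eval (fun k => τ (q k)) w = 1 := fun w hw =>
    (hτq w (hlet w hw)).trans (eval_allRels hw)
  have hlD : ∀ k < 2, l k ∈ D := by
    intro k hk
    interval_cases k
    · exact hA
    · exact hB
  have halt : ∀ w ∈ altRels, eval q w = 1 := by
    intro w hw
    rw [← map_eval (QuotientGroup.mk' K1) l]
    refine (QuotientGroup.eq_one_iff _).2 (hDK _ ?_ ?_)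
    · have hl4 := altRels_letters w hw
      clear hw
      induction w with
      | nil => simp [one_mem]
      | cons x w ih =>
        rw [eval_cons]
        refine mul_mem ?_ (ih fun y hy => hl4 y (List.mem_cons_of_mem _ hy))
        have hx := hl4 x (List.mem_cons_self ..)
        unfold L
        split_ifs
        · exact hlD _ (by omega)
        · exact inv_mem (hlD _ (by omega))
        · exact one_mem _
    · have h := hτ w (List.mem_append_left _ (List.mem_append_left _ hw))
      rw [← h, map_eval]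
      rfl
  have h2 : q 2 ^ 3 = 1 := by
    have h := alt_a_pow halt
    simp only [q, l, OfNat.ofNat_ne_zero, if_false, OfNat.ofNat_ne_one, if_true, map_mul,
      map_inv] at h ⊢
    rw [conj_pow, h, mul_one, mul_inv_cancel]
  have hrels := rels_of_data τ hcq h176 hτ halt h2
  have hgen : closure (l '' {i | i < 3}) = ⊤ := by
    refine eq_top_of_map_eq_top ⟨hs, hc, hcom⟩ ?_
    rw [MonoidHom.map_closure, Set.image_image, ← closure_gm]
    congr 1
    exact Set.image_congr fun k hk => hσl k hk
  have hgenq : closure (q '' {i | i < 3}) = ⊤ := by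
    have h := congrArg (Subgroup.map (QuotientGroup.mk' K1)) hgen
    rwa [MonoidHom.map_closure, Set.image_image,
      map_top_of_surjective _ (QuotientGroup.mk'_surjective K1)] at h
  have hQ := card_le_of_rels hrels hgenq
  have h1 : Nat.card Γ = Nat.card (Γ ⧸ K1) * Nat.card K1 := card_eq_card_quotient_mul_card_subgroup K1
  have h3 : Nat.card Γ = 443520 * Nat.card σ.ker := by
    rw [card_eq_card_quotient_mul_card_subgroup σ.ker,
      Nat.card_congr (QuotientGroup.quotientKerEquivOfSurjective σ hs).toEquiv, card_M22]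
  have h4 : Nat.card (Γ ⧸ K1) * Nat.card K1 ≤ 887040 * 6 := Nat.mul_le_mul hQ hK1c
  omega

end Cfsg.Agent.M22Mult38
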