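import Cfsg.Agent.M22Mult38.Mono
import Cfsg.Agent.M22Mult38.MonoThree
import Cfsg.Agent.M22Mult38.MonoFour
import Cfsg.Agent.M22Mult38.Words

/-!
The relations act on the monomial permutations as shifts.
-/

set_option autoImplicit false

namespace Cfsg.Agent.M22Mult38

open J1Order38.Cert

/-- The product of two commutators. -/
def centralWord : List ℕ :=
  [0, 4, 1, 5, 5, 1, 4, 0, 4, 2, 4, 3, 3, 4, 2, 5, 3, 5, 2, 2, 5, 3]

/-- The shifts of the relations on the blocks of length 3. -/
def shifts_three : List ℕ := [0, 0, 0, 1, 0, 0, 2, 1, 2, 0, 0, 0, 0, 2, 0, 1, 0, 0, 0, 0, 0, 0, 0, 1, 2, 2, 1, 2, 2, 0, 0, 0, 0, 0, 2, 1, 0, 2, 0, 2, 0]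

theorem inv_three : Mono.InvOk 231 3 MonoThree.tab = true := by decide +kernel

theorem shift_three_0 : (((allRels.zip shifts_three).drop 0).take 5).all
    (fun e => Mono.shiftOk 231 3 MonoThree.tab e.1 e.2) = true := by decide +kernel

theorem shift_three_5 : (((allRels.zip shifts_three).drop 5).take 5).all
    (fun e => Mono.shiftOk 231 3 MonoThree.tab e.1 e.2) = true := by decide +kernel

theorem shift_three_10 : (((allRels.zip shifts_three).drop 10).take 5).all
    (fun e => Mono.shiftOk 231 3 MonoThree.tab e.1 e.2) = true := by decide +kernel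

theorem shift_three_15 : (((allRels.zip shifts_three).drop 15).take 5).all
    (fun e => Mono.shiftOk 231 3 MonoThree.tab e.1 e.2) = true := by decide +kernel

theorem shift_three_20 : (((allRels.zip shifts_three).drop 20).take 5).all
    (fun e => Mono.shiftOk 231 3 MonoThree.tab e.1 e.2) = true := by decide +kernel

theorem shift_three_25 : (((allRels.zip shifts_three).drop 25).take 5).all
    (fun e => Mono.shiftOk 231 3 MonoThree.tab e.1 e.2) = true := by decide +kernel

theorem shift_three_30 : (((allRels.zip shifts_three).drop 30).take 5).all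
    (fun e => Mono.shiftOk 231 3 MonoThree.tab e.1 e.2) = true := by decide +kernel

theorem shift_three_35 : (((allRels.zip shifts_three).drop 35).take 5).all
    (fun e => Mono.shiftOk 231 3 MonoThree.tab e.1 e.2) = true := by decide +kernel

theorem shift_three_40 : (((allRels.zip shifts_three).drop 40).take 5).all
    (fun e => Mono.shiftOk 231 3 MonoThree.tab e.1 e.2) = true := by decide +kernel

theorem central_three : Mono.shiftOk 231 3 MonoThree.tab centralWord 2 = true := by decide +kernel

theorem shift_three : ∀ w ∈ allRels, ∃ c, Mono.shiftOk 231 3 MonoThree.tab w c = true := by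
  intro w hw
  obtain ⟨i, hi, rfl⟩ := List.mem_iff_getElem.1 hw
  have h41 : allRels.length = 41 := by decide +kernel
  have hs : shifts_three.length = 41 := rfl
  refine ⟨shifts_three[i]'(by omega), ?_⟩
  have key : ∀ a, ((((allRels.zip shifts_three).drop a).take 5).all
      (fun e => Mono.shiftOk 231 3 MonoThree.tab e.1 e.2) = true) → a ≤ i → i < a + 5 →
      Mono.shiftOk 231 3 MonoThree.tab allRels[i] (shifts_three[i]'(by omega)) = true := by
    intro a ha h1 h2
    refine List.all_eq_true.1 ha (allRels[i], shifts_three[i]'(by omega)) ?_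
    rw [List.mem_take_iff_getElem]
    refine ⟨i - a, by simp; omega, ?_⟩
    simp [show a + (i - a) = i by omega]
  rcases (show (0 ≤ i ∧ i < 0 + 5) ∨ (5 ≤ i ∧ i < 5 + 5) ∨ (10 ≤ i ∧ i < 10 + 5) ∨ (15 ≤ i ∧ i < 15 + 5) ∨ (20 ≤ i ∧ i < 20 + 5) ∨ (25 ≤ i ∧ i < 25 + 5) ∨ (30 ≤ i ∧ i < 30 + 5) ∨ (35 ≤ i ∧ i < 35 + 5) ∨ (40 ≤ i ∧ i < 40 + 5) by omega) with h | h | h | h | h | h | h | h | h
  · exact key 0 shift_three_0 h.1 h.2
  · exact key 5 shift_three_5 h.1 h.2
  · exact key 10 shift_three_10 h.1 h.2
  · exact key 15 shift_three_15 h.1 h.2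
  · exact key 20 shift_three_20 h.1 h.2
  · exact key 25 shift_three_25 h.1 h.2
  · exact key 30 shift_three_30 h.1 h.2
  · exact key 35 shift_three_35 h.1 h.2
  · exact key 40 shift_three_40 h.1 h.2

/-- The shifts of the relations on the blocks of length 4. -/
def shifts_four : List ℕ := [0, 0, 0, 2, 2, 0, 0, 0, 0, 0, 0, 0, 0, 0, 0, 0, 0, 0, 0, 0, 0, 0, 0, 0, 0, 0, 0, 0, 0, 0, 0, 0, 0, 0, 0, 0, 0, 0, 0, 0, 0]

theorem inv_four : Mono.InvOk 1232 4 MonoFour.tab = true := by decide +kernel

theorem shift_four_0 : (((allRels.zip shifts_four).drop 0).take 5).all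
    (fun e => Mono.shiftOk 1232 4 MonoFour.tab e.1 e.2) = true := by decide +kernel

theorem shift_four_5 : (((allRels.zip shifts_four).drop 5).take 5).all
    (fun e => Mono.shiftOk 1232 4 MonoFour.tab e.1 e.2) = true := by decide +kernel

theorem shift_four_10 : (((allRels.zip shifts_four).drop 10).take 5).all
    (fun e => Mono.shiftOk 1232 4 MonoFour.tab e.1 e.2) = true := by decide +kernel

theorem shift_four_15 : (((allRels.zip shifts_four).drop 15).take 5).all
    (fun e => Mono.shiftOk 1232 4 MonoFour.tab e.1 e.2) = true := by decide +kernel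

theorem shift_four_20 : (((allRels.zip shifts_four).drop 20).take 5).all
    (fun e => Mono.shiftOk 1232 4 MonoFour.tab e.1 e.2) = true := by decide +kernel

theorem shift_four_25 : (((allRels.zip shifts_four).drop 25).take 5).all
    (fun e => Mono.shiftOk 1232 4 MonoFour.tab e.1 e.2) = true := by decide +kernel

theorem shift_four_30 : (((allRels.zip shifts_four).drop 30).take 5).all
    (fun e => Mono.shiftOk 1232 4 MonoFour.tab e.1 e.2) = true := by decide +kernel

theorem shift_four_35 : (((allRels.zip shifts_four).drop 35).take 5).all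
    (fun e => Mono.shiftOk 1232 4 MonoFour.tab e.1 e.2) = true := by decide +kernel

theorem shift_four_40 : (((allRels.zip shifts_four).drop 40).take 5).all
    (fun e => Mono.shiftOk 1232 4 MonoFour.tab e.1 e.2) = true := by decide +kernel

theorem central_four : Mono.shiftOk 1232 4 MonoFour.tab centralWord 3 = true := by decide +kernel

theorem shift_four : ∀ w ∈ allRels, ∃ c, Mono.shiftOk 1232 4 MonoFour.tab w c = true := by
  intro w hw
  obtain ⟨i, hi, rfl⟩ := List.mem_iff_getElem.1 hw
  have h41 : allRels.length = 41 := by decide +kernel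
  have hs : shifts_four.length = 41 := rfl
  refine ⟨shifts_four[i]'(by omega), ?_⟩
  have key : ∀ a, ((((allRels.zip shifts_four).drop a).take 5).all
      (fun e => Mono.shiftOk 1232 4 MonoFour.tab e.1 e.2) = true) → a ≤ i → i < a + 5 →
      Mono.shiftOk 1232 4 MonoFour.tab allRels[i] (shifts_four[i]'(by omega)) = true := by
    intro a ha h1 h2
    refine List.all_eq_true.1 ha (allRels[i], shifts_four[i]'(by omega)) ?_
    rw [List.mem_take_iff_getElem]
    refine ⟨i - a, by simp; omega, ?_⟩
    simp [show a + (i - a) = i by omega]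
  rcases (show (0 ≤ i ∧ i < 0 + 5) ∨ (5 ≤ i ∧ i < 5 + 5) ∨ (10 ≤ i ∧ i < 10 + 5) ∨ (15 ≤ i ∧ i < 15 + 5) ∨ (20 ≤ i ∧ i < 20 + 5) ∨ (25 ≤ i ∧ i < 25 + 5) ∨ (30 ≤ i ∧ i < 30 + 5) ∨ (35 ≤ i ∧ i < 35 + 5) ∨ (40 ≤ i ∧ i < 40 + 5) by omega) with h | h | h | h | h | h | h | h | h
  · exact key 0 shift_four_0 h.1 h.2
  · exact key 5 shift_four_5 h.1 h.2
  · exact key 10 shift_four_10 h.1 h.2
  · exact key 15 shift_four_15 h.1 h.2
  · exact key 20 shift_four_20 h.1 h.2
  · exact key 25 shift_four_25 h.1 h.2
  · exact key 30 shift_four_30 h.1 h.2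
  · exact key 35 shift_four_35 h.1 h.2
  · exact key 40 shift_four_40 h.1 h.2

end Cfsg.Agent.M22Mult38
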