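import Cfsg.Agent.M22Mult38.Bound
import Cfsg.Agent.M22Mult38.MonoCert

/-!
A perfect central extension of M₂₂ with a kernel element of order twelve.
-/

set_option autoImplicit false

namespace Cfsg.Agent.M22Mult38

open Golay Golay.Mult J1Order38.Cert Subgroup
open scoped commutatorElement

/-- The monomial permutations of the two kinds. -/
abbrev MX : Type := Equiv.Perm (Fin 231 × ZMod 3) × Equiv.Perm (Fin 1232 × ZMod 4)

/-- The generators of the extension. -/
noncomputable def yg (k : ℕ) : MX × Spor.M22 :=
  ((Mono.gen inv_three k, Mono.gen inv_four k), gm k)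

/-- The group they generate. -/
noncomputable def cov : Subgroup (MX × Spor.M22) := closure (yg '' {i | i < 3})

/-- The generators inside the group. -/
noncomputable def cg (k : ℕ) : cov :=
  if h : k < 3 then ⟨yg k, subset_closure ⟨k, h, rfl⟩⟩ else 1

/-- The projection. -/
noncomputable def cproj : cov →* Spor.M22 := (MonoidHom.snd _ _).comp cov.subtype

theorem eval_cg {w : List ℕ} (hw : ∀ x ∈ w, x < 6) :
    ((eval cg w : cov) : MX × Spor.M22) = eval yg w := by
  rw [map_subtype_eval]
  exact eval_congr_lt (m := 3) (fun k hk => by rw [cg, dif_pos hk]) hw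

theorem eval_cg_eq {w : List ℕ} (hw : ∀ x ∈ w, x < 6) {c d : ℕ}
    (h3 : Mono.shiftOk 231 3 MonoThree.tab w c = true)
    (h4 : Mono.shiftOk 1232 4 MonoFour.tab w d = true) :
    ((eval cg w : cov) : MX × Spor.M22) =
      ((Mono.shift 231 3 (c : ZMod 3), Mono.shift 1232 4 (d : ZMod 4)), eval gm w) := by
  rw [eval_cg hw]
  refine Prod.ext (Prod.ext ?_ ?_) ?_
  · exact (map_eval ((MonoidHom.fst _ _).comp (MonoidHom.fst _ _)) yg w).trans
      (Mono.eval_gen_of_shiftOk inv_three hw h3)
  · exact (map_eval ((MonoidHom.snd _ _).comp (MonoidHom.fst _ _)) yg w).trans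
      (Mono.eval_gen_of_shiftOk inv_four hw h4)
  · exact map_eval (MonoidHom.snd _ _) yg w

theorem closure_cg : closure (cg '' {i | i < 3}) = ⊤ := by
  refine map_injective cov.subtype_injective ?_
  rw [MonoidHom.map_closure, ← MonoidHom.range_eq_map, range_subtype, Set.image_image]
  show Subgroup.closure _ = Subgroup.closure (yg '' {i | i < 3})
  congr 1
  exact Set.image_congr fun k hk => by
    have hk' : k < 3 := hk
    rw [cg, dif_pos hk']
    rfl

theorem mem_center_of_shifts {y : cov} {c : ZMod 3} {d : ZMod 4}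
    (h : (y : MX × Spor.M22) = ((Mono.shift 231 3 c, Mono.shift 1232 4 d), 1)) :
    y ∈ center cov ⊓ cproj.ker := by
  refine ⟨mem_center_iff.2 fun x => ?_, congrArg Prod.snd h⟩
  have hx : x ∈ centralizer ({y} : Set cov) := by
    have htop : ⊤ ≤ centralizer ({y} : Set cov) := by
      rw [← closure_cg, closure_le]
      rintro _ ⟨k, hk, rfl⟩
      rw [SetLike.mem_coe, mem_centralizer_singleton_iff]
      refine Subtype.ext ?_
      have hk' : k < 3 := hk
      rw [coe_mul, coe_mul, cg, dif_pos hk', h]
      exact Prod.ext (Prod.ext (Mono.commute_shift inv_three k c)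
        (Mono.commute_shift inv_four k d)) ((mul_one _).trans (one_mul _).symm)
    exact htop (mem_top x)
  exact mem_centralizer_singleton_iff.1 hx

theorem cproj_surjective : Function.Surjective cproj := by
  rw [← MonoidHom.range_eq_top, MonoidHom.range_eq_map, ← closure_cg, MonoidHom.map_closure,
    Set.image_image, ← closure_gm]
  congr 1
  exact Set.image_congr fun k hk => by
    have hk' : k < 3 := hk
    show ((cg k : cov) : MX × Spor.M22).2 = gm k
    rw [cg, dif_pos hk']
    rfl

/-- The known central part of the kernel. -/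
noncomputable abbrev cz : Subgroup cov := center cov ⊓ cproj.ker

theorem cz_normal : cz.Normal := ⟨fun n hn g => by
  rw [mem_center_iff.1 hn.1 g, mul_inv_cancel_right]; exact hn⟩

attribute [local instance] cz_normal

theorem rels_quot : ∀ w ∈ allRels, eval (fun k => QuotientGroup.mk' cz (cg k)) w = 1 := by
  intro w hw
  obtain ⟨c, h3⟩ := shift_three w hw
  obtain ⟨d, h4⟩ := shift_four w hw
  have hw6 : ∀ x ∈ w, x < 6 := by
    have h := List.all_eq_true.1 rels_facts w hw
    simp only [Bool.and_eq_true, List.all_eq_true, Nat.blt, Nat.ble_eq] at h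
    exact fun x hx => h.1 x hx
  have h := eval_cg_eq hw6 h3 h4
  rw [eval_allRels hw] at h
  rw [← map_eval (QuotientGroup.mk' cz) cg w]
  exact (QuotientGroup.eq_one_iff _).2 (mem_center_of_shifts h)

theorem closure_quot :
    closure ((fun k => QuotientGroup.mk' cz (cg k)) '' {i | i < 3}) = ⊤ := by
  have h := congrArg (Subgroup.map (QuotientGroup.mk' cz)) closure_cg
  rwa [MonoidHom.map_closure, Set.image_image,
    map_top_of_surjective _ (QuotientGroup.mk'_surjective cz)] at h

theorem relIndex_cz_le : Nat.card (cov ⧸ cz) ≤ 2 * Nat.card Spor.M22 := by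
  rw [card_M22]
  exact card_le_of_rels rels_quot closure_quot

/-- Commutators of the kernel with the group are in the known central part. -/
theorem commutator_mem_cz {x : cov} (hx : x ∈ cproj.ker) (y : cov) : ⁅x, y⁆ ∈ cz := by
  set τ : cov ⧸ cz →* Spor.M22 := QuotientGroup.lift cz cproj inf_le_right
  have hτ : Function.Surjective τ := fun m => by
    obtain ⟨a, ha⟩ := cproj_surjective m
    exact ⟨QuotientGroup.mk a, ha⟩
  have hcard : Nat.card τ.ker ≤ 2 := by
    have h := card_eq_card_quotient_mul_card_subgroup τ.ker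
    rw [Nat.card_congr (QuotientGroup.quotientKerEquivOfSurjective τ hτ).toEquiv] at h
    have h1 := relIndex_cz_le
    rw [h, mul_comm 2] at h1
    exact Nat.le_of_mul_le_mul_left h1 Nat.card_pos
  have hcent : τ.ker ≤ center (cov ⧸ cz) := by
    intro a ha
    rw [mem_center_iff]
    intro b
    by_cases ha1 : a = 1
    · simp [ha1]
    have hb : b * a * b⁻¹ ∈ τ.ker := (inferInstance : τ.ker.Normal).conj_mem a ha b
    have hpair : b * a * b⁻¹ = a := by
      by_contra hne
      have hb1 : b * a * b⁻¹ ≠ 1 := fun h => ha1 (conj_eq_one_iff.1 h)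
      let e : Fin 3 → τ.ker := ![1, ⟨a, ha⟩, ⟨_, hb⟩]
      have he : Function.Injective e := by
        intro i j hij
        fin_cases i <;> fin_cases j <;> first
          | rfl
          | exact absurd (congrArg Subtype.val hij) (Ne.symm ha1)
          | exact absurd (congrArg Subtype.val hij) ha1
          | exact absurd (congrArg Subtype.val hij) (Ne.symm hb1)
          | exact absurd (congrArg Subtype.val hij) hb1
          | exact absurd (congrArg Subtype.val hij) (Ne.symm hne)
          | exact absurd (congrArg Subtype.val hij) hne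
      have := Nat.card_le_card_of_injective e he
      rw [Nat.card_fin] at this
      omega
    exact mul_inv_eq_iff_eq_mul.1 hpair
  rw [← QuotientGroup.eq_one_iff]
  show QuotientGroup.mk' cz ⁅x, y⁆ = 1
  rw [map_commutatorElement, commutatorElement_eq_one_iff_mul_comm]
  exact (mem_center_iff.1 (hcent (show τ (QuotientGroup.mk' cz x) = 1 from hx)) _).symm

/-- The derived group of the extension. -/
noncomputable abbrev dcov : Subgroup cov := commutator cov

/-- The projection of the derived group. -/
noncomputable def dproj : dcov →* Spor.M22 := cproj.comp dcov.subtype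

/-- The relations have no nontrivial abelian solution. -/
theorem eq_one_of_comm {A : Type*} [CommGroup A] {g : ℕ → A} (hg : ∀ w ∈ allRels, eval g w = 1) :
    g 0 = 1 ∧ g 1 = 1 ∧ g 2 = 1 := by
  have ha : g 0 ^ 3 = 1 := alt_a_pow fun w hw =>
    hg w (List.mem_append_left _ (List.mem_append_left _ hw))
  have hb : g 1 ^ 5 = 1 := alt_b_pow fun w hw =>
    hg w (List.mem_append_left _ (List.mem_append_left _ hw))
  have hA : g 0 = 1 := by
    have h := hg [0, 3, 0, 2, 0, 3, 0, 2] (by decide +kernel)
    have e : eval g [0, 3, 0, 2, 0, 3, 0, 2] = g 0 * (g 1)⁻¹ * g 0 * g 1 * (g 0 * (g 1)⁻¹ * g 0 * g 1) := by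
      simp [L, mul_assoc]
      rw [mul_left_comm, inv_mul_cancel_left]
    rw [e, mul_right_comm (g 0), inv_mul_cancel_right] at h
    have h4 : g 0 ^ 4 = 1 := by
      rw [show g 0 ^ 4 = g 0 * g 0 * (g 0 * g 0) by simp [pow_succ, mul_assoc]]; exact h
    rwa [pow_succ, ha, one_mul] at h4
  have hB : g 1 = 1 := by
    have h := hg [0, 2, 0, 2, 0, 2, 0, 2, 0, 2, 0, 2, 0, 2] (by decide +kernel)
    have h7 : g 1 ^ 7 = 1 := by simpa [L, hA, pow_succ, mul_assoc] using h
    refine orderOf_eq_one_iff.1 (Nat.dvd_one.1 ?_)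
    simpa using Nat.dvd_gcd (orderOf_dvd_of_pow_eq_one hb) (orderOf_dvd_of_pow_eq_one h7)
  refine ⟨hA, hB, ?_⟩
  have h := hg [4, 1, 2, 0, 3, 5, 0, 2, 1, 3, 1, 4, 2, 1, 3, 0] (by decide +kernel)
  simpa [L, hA, hB] using h

/-- Modulo the known central part the extension is perfect. -/
theorem sup_cz : dcov ⊔ cz = ⊤ := by
  set N := dcov ⊔ cz
  haveI : N.Normal := sup_normal dcov cz
  set f := QuotientGroup.mk' N
  have hab : ∀ a b : cov ⧸ N, a * b = b * a := by
    intro a b
    obtain ⟨a, rfl⟩ := QuotientGroup.mk'_surjective N a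
    obtain ⟨b, rfl⟩ := QuotientGroup.mk'_surjective N b
    rw [← commutatorElement_eq_one_iff_mul_comm, ← map_commutatorElement]
    exact (QuotientGroup.eq_one_iff _).2
      (mem_sup_left (commutator_mem_commutator (mem_top _) (mem_top _)))
  letI : CommGroup (cov ⧸ N) := { (inferInstance : Group (cov ⧸ N)) with mul_comm := hab }
  set g : ℕ → cov ⧸ N := fun k => f (cg k)
  have hg : ∀ w ∈ allRels, eval g w = 1 := by
    intro w hw
    have h := rels_quot w hw
    rw [← map_eval (QuotientGroup.mk' cz) cg w] at h
    rw [← map_eval f cg w]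
    exact (QuotientGroup.eq_one_iff _).2
      (mem_sup_right ((QuotientGroup.eq_one_iff _).1 h))
  obtain ⟨hA, hB, hC⟩ := eq_one_of_comm hg
  rw [eq_top_iff]
  intro x _
  have hall : ∀ y : cov, f y = 1 := by
    intro y
    have htop : ⊤ ≤ f.ker := by
      rw [← closure_cg, closure_le]
      rintro _ ⟨k, hk, rfl⟩
      have hk' : k < 3 := hk
      interval_cases k
      · exact hA
      · exact hB
      · exact hC
    exact htop (mem_top y)
  exact (QuotientGroup.eq_one_iff x).1 (hall x)

theorem dcov_perfect : commutator dcov = ⊤ := by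
  refine map_injective dcov.subtype_injective ?_
  rw [_root_.commutator_def, map_commutator, ← MonoidHom.range_eq_map, range_subtype]
  refine le_antisymm (commutator_mono le_top le_top) ?_
  show commutator cov ≤ ⁅dcov, dcov⁆
  rw [_root_.commutator_def, commutator_le]
  intro x _ y _
  have split : ∀ a : cov, ∃ p ∈ dcov, ∃ q ∈ center cov, a = p * q := by
    intro a
    obtain ⟨p, hp, q, hq, e⟩ := mem_sup_of_normal_right.1 (sup_cz.symm ▸ mem_top a)
    exact ⟨p, hp, q, hq.1, e.symm⟩
  obtain ⟨p, hp, q, hq, rfl⟩ := split x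
  obtain ⟨p', hp', q', hq', rfl⟩ := split y
  rw [Schur.commutatorElement_mul_central hq hq']
  exact commutator_mem_commutator hp hp'

theorem dproj_isStem : Cfsg.IsStemExtension dproj := by
  refine ⟨?_, ?_, ?_⟩
  · rw [← MonoidHom.range_eq_top]
    show (cproj.comp dcov.subtype).range = ⊤
    rw [MonoidHom.range_comp, range_subtype]
    show (commutator cov).map cproj = ⊤
    rw [_root_.commutator_def, map_commutator,
      map_top_of_surjective _ cproj_surjective, ← _root_.commutator_def, commutator_M22]
  · intro x hx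
    rw [mem_center_iff]
    intro y
    have hcentral : ∀ a ∈ dcov, Commute (x : cov) a := by
      set c : cov →* cz := MonoidHom.mk' (fun a => ⟨⁅(x : cov), a⁆, commutator_mem_cz hx a⟩)
        fun a b => Subtype.ext (by
          have hz : ∀ u : cov, u * ⁅(x : cov), b⁆ = ⁅(x : cov), b⁆ * u :=
            mem_center_iff.1 (commutator_mem_cz hx b).1
          show ⁅(x : cov), a * b⁆ = ⁅(x : cov), a⁆ * ⁅(x : cov), b⁆
          have e : ⁅(x : cov), a * b⁆ = ⁅(x : cov), a⁆ * (a * ⁅(x : cov), b⁆ * a⁻¹) := by
            simp only [commutatorElement_def]; group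
          rw [e, hz a, mul_inv_cancel_right])
      have hczc : ∀ u v : cz, u * v = v * u := fun u v =>
        Subtype.ext (mem_center_iff.1 v.2.1 u.1)
      have hle : dcov ≤ c.ker := by
        show commutator cov ≤ c.ker
        rw [_root_.commutator_def, commutator_le]
        intro a _ b _
        rw [MonoidHom.mem_ker, map_commutatorElement, commutatorElement_eq_one_iff_mul_comm]
        exact hczc _ _
      intro a ha
      exact commutatorElement_eq_one_iff_mul_comm.1 (congrArg Subtype.val (hle ha))
    exact Subtype.ext (hcentral y.1 y.2).symm.eq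
  · rw [dcov_perfect]; exact le_top

theorem commPairs_facts :
    centralWord = commPairs.1 ++ commPairs.2.1 ++ winv commPairs.1 ++ winv commPairs.2.1 ++
      (commPairs.2.2.1 ++ commPairs.2.2.2 ++ winv commPairs.2.2.1 ++ winv commPairs.2.2.2) ∧
    wordTab centralWord = idTab ∧ centralWord.all (fun x => Nat.blt x 6) = true := by
  decide +kernel

theorem exists_ker_orderOf : ∃ e : dproj.ker, 12 ∣ orderOf e := by
  have hc6 : ∀ x ∈ centralWord, x < 6 := by decide +kernel
  have hv := eval_cg_eq hc6 central_three central_four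
  have hgm : eval gm centralWord = 1 := eq_one_of_tab (by
    have h := tab_eval commPairs_facts.2.2
    rwa [commPairs_facts.2.1] at h)
  have hmem : eval cg centralWord ∈ dcov := by
    rw [commPairs_facts.1]
    simp only [eval_append]
    rw [eval_winv cg (by decide), eval_winv cg (by decide), eval_winv cg (by decide),
      eval_winv cg (by decide), ← commutatorElement_def, ← commutatorElement_def]
    exact mul_mem (commutator_mem_commutator (mem_top _) (mem_top _))
      (commutator_mem_commutator (mem_top _) (mem_top _))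
  rw [hgm] at hv
  refine ⟨⟨⟨_, hmem⟩, congrArg Prod.snd hv⟩, ?_⟩
  rw [← Subgroup.orderOf_coe, ← Subgroup.orderOf_coe, ← Subgroup.orderOf_coe]
  show 12 ∣ orderOf ((eval cg centralWord : cov) : MX × Spor.M22)
  have h1 := pow_orderOf_eq_one ((eval cg centralWord : cov) : MX × Spor.M22)
  rw [hv] at h1
  have h3 := Mono.nsmul_eq_zero_of_shift_pow _ (congrArg (fun p => p.1.1) h1)
  have h4 := Mono.nsmul_eq_zero_of_shift_pow _ (congrArg (fun p => p.1.2) h1)
  rw [← hv, nsmul_eq_mul, ← Nat.cast_mul, ZMod.natCast_eq_zero_iff] at h3 h4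
  exact Nat.Coprime.mul_dvd_of_dvd_of_dvd (by norm_num : Nat.Coprime 3 4)
    ((show Nat.Coprime 3 2 by norm_num).dvd_of_dvd_mul_right h3)
    ((show Nat.Coprime 4 3 by norm_num).dvd_of_dvd_mul_right h4)

theorem hasCyclicSchurMultiplier_M22 : Cfsg.HasCyclicSchurMultiplier Spor.M22 12 := by
  obtain ⟨e, he⟩ := exists_ker_orderOf
  have hle := card_ker_le_twelve dproj dproj_isStem
  have h12 : 12 ∣ Nat.card dproj.ker := he.trans (orderOf_dvd_natCard e)
  have hcard : Nat.card dproj.ker = 12 :=
    le_antisymm hle (Nat.le_of_dvd Nat.card_pos h12)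
  haveI : IsCyclic dproj.ker := isCyclic_of_orderOf_eq_card e (by
    rw [hcard]
    exact Nat.dvd_antisymm (hcard ▸ orderOf_dvd_natCard e) he)
  refine Schur.hasSchurMultiplier_of_card_le dproj dproj_isStem
    (mulEquivOfCyclicCardEq (hcard.trans (by simp))) fun Γ _ _ σ hσ => ?_
  simpa using card_ker_le_twelve σ hσ

end Cfsg.Agent.M22Mult38
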