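import Cfsg.Agent.M22Mult38.Engine

/-!
Monomial permutations given by tables, and the value of a word on them.
-/

set_option autoImplicit false

namespace Cfsg.Agent.M22Mult38.Mono

open J1Order38.Cert

/-- An entry of a packed table. -/
def get (t i : ℕ) : ℕ := Nat.land (Nat.shiftRight t (16 * i)) 65535

variable (n k : ℕ) [NeZero n] [NeZero k]

/-- The packed image of the zeroth point of a block under a word. -/
def actN (tab : ℕ → ℕ) : List ℕ → ℕ → ℕ
  | [], i => i * k
  | x :: w, i =>
    let r := actN tab w i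
    let e := get (tab x) (r / k)
    (e / k % n) * k + (r % k + e % k) % k

/-- Every block goes to itself, shifted by a given amount. -/
def shiftOk (tab : ℕ → ℕ) (w : List ℕ) (c : ℕ) : Bool :=
  allLt n fun i => Nat.beq (actN n k tab w i) (i * k + c % k)

/-- The map of a letter. -/
def mv (tab : ℕ → ℕ) (x : ℕ) (p : Fin n × ZMod k) : Fin n × ZMod k :=
  (⟨get (tab x) p.1 / k % n, Nat.mod_lt _ (Nat.pos_of_neZero n)⟩,
    p.2 + ((get (tab x) p.1 % k : ℕ) : ZMod k))

/-- The map of a word. -/
def mvs (tab : ℕ → ℕ) : List ℕ → Fin n × ZMod k → Fin n × ZMod k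
  | [], p => p
  | x :: w, p => mv n k tab x (mvs tab w p)

/-- The shift of every block. -/
def shift (c : ZMod k) : Equiv.Perm (Fin n × ZMod k) :=
  (Equiv.refl _).prodCongr (Equiv.addRight c)

variable {n k}

theorem shift_apply (c : ZMod k) (p : Fin n × ZMod k) : shift n k c p = (p.1, p.2 + c) := rfl

theorem shift_pow (c : ZMod k) : ∀ m : ℕ, shift n k c ^ m = shift n k (m • c)
  | 0 => by ext p <;> simp [shift_apply]
  | m + 1 => by
    rw [pow_succ, shift_pow c m]
    ext p
    · simp [shift_apply]
    · simp [shift_apply, add_mul, add_assoc, add_comm c]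

theorem nsmul_eq_zero_of_shift_pow (c : ZMod k) {m : ℕ} (h : shift n k c ^ m = 1) :
    m • c = 0 := by
  rw [shift_pow] at h
  have := congrArg (fun e : Equiv.Perm (Fin n × ZMod k) => (e (0, 0)).2) h
  simpa [shift_apply] using this

variable {tab : ℕ → ℕ}

theorem mvs_eq : ∀ (w : List ℕ) (p : Fin n × ZMod k),
    actN n k tab w p.1 / k = (mvs n k tab w p).1 ∧
      p.2 + (actN n k tab w p.1 % k : ℕ) = (mvs n k tab w p).2
  | [], p => by
    simp [actN, mvs, Nat.mul_div_cancel _ (Nat.pos_of_neZero k)]
  | x :: w, p => by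
    obtain ⟨h1, h2⟩ := mvs_eq w p
    simp only [actN, mvs, mv]
    rw [h1]
    have hlt := Nat.mod_lt (actN n k tab w p.1 % k + get (tab x) (mvs n k tab w p).1 % k)
      (Nat.pos_of_neZero k)
    constructor
    · rw [mul_comm, Nat.mul_add_div (Nat.pos_of_neZero k), Nat.div_eq_of_lt hlt, add_zero]
    · rw [mul_comm, Nat.mul_add_mod, Nat.mod_mod, ZMod.natCast_mod, Nat.cast_add, ← add_assoc, h2]

theorem mvs_of_shiftOk {w : List ℕ} {c : ℕ} (h : shiftOk n k tab w c = true)
    (p : Fin n × ZMod k) : mvs n k tab w p = shift n k (c : ZMod k) p := by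
  have h1 := Nat.eq_of_beq_eq_true (of_allLt h p.1 p.1.isLt)
  obtain ⟨h2, h3⟩ := mvs_eq (tab := tab) w p
  rw [h1, mul_comm, Nat.mul_add_div (Nat.pos_of_neZero k),
    Nat.div_eq_of_lt (Nat.mod_lt _ (Nat.pos_of_neZero k)), add_zero] at h2
  rw [h1, mul_comm, Nat.mul_add_mod, Nat.mod_mod, ZMod.natCast_mod] at h3
  exact Prod.ext (Fin.ext h2.symm) h3.symm

theorem mv_shift (x : ℕ) (c : ZMod k) (p : Fin n × ZMod k) :
    mv n k tab x (shift n k c p) = shift n k c (mv n k tab x p) := by
  simp [mv, shift_apply, add_right_comm]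

/-- The six letters are three maps and their inverses. -/
def InvOk (n k : ℕ) (tab : ℕ → ℕ) : Bool :=
  allLt 6 fun x => shiftOk n k tab [x, invL x] 0

/-- The generators, given inverse pairs of tables. -/
def gen (h : InvOk n k tab = true) (j : ℕ) : Equiv.Perm (Fin n × ZMod k) :=
  if hj : j < 3 then
    { toFun := mv n k tab (2 * j)
      invFun := mv n k tab (2 * j + 1)
      left_inv := fun p => by
        have h1 := mvs_of_shiftOk (of_allLt h (2 * j + 1) (by omega)) p
        rw [show invL (2 * j + 1) = 2 * j by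
          rw [invL, show (2 * j + 1) % 2 = 1 by omega]; rfl] at h1
        simpa [mvs, shift_apply] using h1
      right_inv := fun p => by
        have h1 := mvs_of_shiftOk (of_allLt h (2 * j) (by omega)) p
        rw [show invL (2 * j) = 2 * j + 1 by
          rw [invL, show (2 * j) % 2 = 0 by omega]; rfl] at h1
        simpa [mvs, shift_apply] using h1 }
  else 1

theorem eval_gen (h : InvOk n k tab = true) : ∀ {w : List ℕ}, (∀ x ∈ w, x < 6) →
    ∀ p, eval (gen h) w p = mvs n k tab w p
  | [], _, p => rfl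
  | x :: w, hw, p => by
    have hx := hw x (List.mem_cons_self ..)
    rw [eval_cons, Equiv.Perm.mul_apply, eval_gen h (fun y hy => hw y (List.mem_cons_of_mem _ hy))]
    unfold L
    rw [if_pos (show x < 10 by omega), mvs]
    split_ifs with he
    · rw [gen, dif_pos (show x / 2 < 3 by omega)]
      show mv n k tab (2 * (x / 2)) _ = _
      rw [show 2 * (x / 2) = x by omega]
    · rw [gen, dif_pos (show x / 2 < 3 by omega)]
      show mv n k tab (2 * (x / 2) + 1) _ = _
      rw [show 2 * (x / 2) + 1 = x by omega]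

theorem eval_gen_of_shiftOk (h : InvOk n k tab = true) {w : List ℕ} (hw : ∀ x ∈ w, x < 6) {c : ℕ}
    (hc : shiftOk n k tab w c = true) : eval (gen h) w = shift n k (c : ZMod k) :=
  Equiv.ext fun p => (eval_gen h hw p).trans (mvs_of_shiftOk hc p)

theorem commute_shift (h : InvOk n k tab = true) (j : ℕ) (c : ZMod k) :
    Commute (gen h j) (shift n k c) := by
  refine Equiv.ext fun p => ?_
  by_cases hj : j < 3
  · rw [Equiv.Perm.mul_apply, Equiv.Perm.mul_apply, gen, dif_pos hj]
    exact mv_shift _ c p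
  · rw [gen, dif_neg hj, one_mul, mul_one]

end Cfsg.Agent.M22Mult38.Mono
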